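import Mathlib.GroupTheory.PGroup
import Mathlib.GroupTheory.Index

/-!
Dimensions of subgroups of finite groups of exponent two, and pairs of a module with a group of homomorphisms
on it.
-/

set_option autoImplicit false
set_option linter.unusedSectionVars false
set_option linter.style.haveILetI false

namespace CfsgLib.Fusion.SFreeFF

/-- Exponent two. -/
def Exp2 (V : Type*) [CommGroup V] : Prop := ∀ v : V, v * v = 1

/-- The dimension of a subgroup. -/
noncomputable def dl {V : Type*} [Group V] (S : Subgroup V) : ℕ := Nat.log 2 (Nat.card S)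

section Dim

variable {V : Type*} [CommGroup V] [Finite V]

theorem Exp2.subgroup (h : Exp2 V) (S : Subgroup V) : Exp2 S := fun v => Subtype.ext (h v)

theorem Exp2.quotient (h : Exp2 V) (S : Subgroup V) : Exp2 (V ⧸ S) :=
  fun x => QuotientGroup.induction_on x fun v => congrArg QuotientGroup.mk (h v)

theorem Exp2.hom {W : Type*} [CommGroup W] (h : Exp2 W) : Exp2 (V →* W) :=
  fun f => MonoidHom.ext fun v => h (f v)

theorem Exp2.isPGroup (h : Exp2 V) (S : Subgroup V) : IsPGroup 2 S :=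
  fun x => ⟨1, Subtype.ext (by simpa [pow_two] using h x)⟩

theorem card_eq_pow (h : Exp2 V) (S : Subgroup V) : Nat.card S = 2 ^ dl S := by
  haveI : Fact (Nat.Prime 2) := ⟨Nat.prime_two⟩
  obtain ⟨n, hn⟩ := IsPGroup.iff_card.mp (h.isPGroup S)
  rw [dl, hn, Nat.log_pow one_lt_two]

theorem dl_bot : dl (⊥ : Subgroup V) = 0 := by rw [dl, Subgroup.card_bot, Nat.log_one_right]

theorem eq_bot_of_dl (h : Exp2 V) {S : Subgroup V} (hS : dl S = 0) : S = ⊥ :=
  Subgroup.card_eq_one.mp (by rw [card_eq_pow h, hS, pow_zero])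

theorem dl_pos (h : Exp2 V) {S : Subgroup V} (hS : S ≠ ⊥) : 0 < dl S :=
  Nat.pos_of_ne_zero fun h0 => hS (eq_bot_of_dl h h0)

theorem dl_mono {S T : Subgroup V} (h : S ≤ T) : dl S ≤ dl T :=
  Nat.log_mono_right (Subgroup.card_le_of_le h)

theorem eq_of_dl_le (h : Exp2 V) {S T : Subgroup V} (hST : S ≤ T) (hd : dl T ≤ dl S) : S = T :=
  Subgroup.eq_of_le_of_card_ge hST (by rw [card_eq_pow h, card_eq_pow h]; exact Nat.pow_le_pow_right two_pos hd)

theorem dl_top_eq : dl (⊤ : Subgroup V) = Nat.log 2 (Nat.card V) := by rw [dl, Subgroup.card_top]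

theorem dl_map_add {W : Type*} [CommGroup W] [Finite W] (h : Exp2 V) (hW : Exp2 W) (f : V →* W)
    (S : Subgroup V) : dl (S.map f) + dl (S ⊓ f.ker) = dl S := by
  have hc : Nat.card (S.map f) * Nat.card ↥(S ⊓ f.ker) = Nat.card S := by
    have h := Subgroup.index_mul_card (f.comp S.subtype).ker
    rw [Subgroup.index_ker, MonoidHom.range_comp, Subgroup.range_subtype, ← MonoidHom.comap_ker] at h
    refine Eq.trans ?_ h
    congr 1
    rw [← Nat.card_congr (Subgroup.subgroupOfEquivOfLe (inf_le_left : S ⊓ f.ker ≤ S)).toEquiv,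
      Subgroup.inf_subgroupOf_left]
    rfl
  rw [card_eq_pow h, card_eq_pow hW, card_eq_pow h, ← pow_add] at hc
  exact Nat.pow_right_injective le_rfl hc

theorem card_sup_mul_inf' (S T : Subgroup V) :
    Nat.card ↥(S ⊔ T) * Nat.card ↥(S ⊓ T) = Nat.card S * Nat.card T := by
  have h1 := Subgroup.relIndex_mul_relIndex (⊥ : Subgroup V) S (S ⊔ T) bot_le le_sup_left
  have h2 := Subgroup.relIndex_mul_relIndex (⊥ : Subgroup V) (S ⊓ T) T bot_le inf_le_right
  rw [Subgroup.relIndex_bot_left, Subgroup.relIndex_bot_left] at h1 h2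
  rw [Subgroup.inf_relIndex_right] at h2
  rw [← h1, ← h2, sup_comm, Subgroup.relIndex_sup_right]
  ring

theorem dl_sup_add_inf (h : Exp2 V) (S T : Subgroup V) : dl (S ⊔ T) + dl (S ⊓ T) = dl S + dl T := by
  have hc := card_sup_mul_inf' S T
  rw [card_eq_pow h, card_eq_pow h, card_eq_pow h, card_eq_pow h, ← pow_add, ← pow_add] at hc
  exact Nat.pow_right_injective le_rfl hc

theorem dl_map_subtype (K : Subgroup V) (S : Subgroup K) : dl (S.map K.subtype) = dl S := by
  rw [dl, dl, Subgroup.card_map_of_injective K.subtype_injective]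

theorem dl_top_subgroup (K : Subgroup V) : dl (⊤ : Subgroup K) = dl K := by rw [dl, dl, Subgroup.card_top]

end Dim

section Pair

variable {Y U : Type*} [CommGroup Y] [CommGroup U]

/-- The common kernel of a group of homomorphisms. -/
def ann (E : Subgroup (Y →* U)) : Subgroup Y where
  carrier := {y | ∀ z ∈ E, z y = 1}
  one_mem' := fun z _ => map_one z
  mul_mem' := fun {a b} ha hb z hz => by rw [map_mul, ha z hz, hb z hz, one_mul]
  inv_mem' := fun {a} ha z hz => by rw [map_inv, ha z hz, inv_one]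

theorem mem_ann {E : Subgroup (Y →* U)} {y : Y} : y ∈ ann E ↔ ∀ z ∈ E, z y = 1 := Iff.rfl

theorem ann_anti {E F : Subgroup (Y →* U)} (h : E ≤ F) : ann F ≤ ann E := fun _ hy z hz => hy z (h hz)

theorem ann_bot : ann (⊥ : Subgroup (Y →* U)) = ⊤ := by
  refine eq_top_iff.mpr fun y _ z hz => ?_
  rw [Subgroup.mem_bot.mp hz]; rfl

/-- The homomorphisms killing a given element. -/
def killing (y : Y) : Subgroup (Y →* U) where
  carrier := {z | z y = 1}
  one_mem' := rfl
  mul_mem' := fun {a b} ha hb => by show a y * b y = 1; rw [ha, hb, one_mul]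
  inv_mem' := fun {a} ha => by show (a y)⁻¹ = 1; rw [ha, inv_one]

theorem mem_ann_iff_le {E : Subgroup (Y →* U)} {y : Y} : y ∈ ann E ↔ E ≤ killing y :=
  ⟨fun h z hz => h z hz, fun h z hz => h hz⟩

theorem ann_sup (E F : Subgroup (Y →* U)) : ann (E ⊔ F) = ann E ⊓ ann F := by
  refine le_antisymm (le_inf (ann_anti le_sup_left) (ann_anti le_sup_right)) fun y hy => ?_
  exact mem_ann_iff_le.mpr (sup_le (mem_ann_iff_le.mp hy.1) (mem_ann_iff_le.mp hy.2))

theorem ann_inf (E F : Subgroup (Y →* U)) : ann E ⊔ ann F ≤ ann (E ⊓ F) :=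
  sup_le (ann_anti inf_le_left) (ann_anti inf_le_right)

/-- The codimension of the common kernel. -/
noncomputable def cd (E : Subgroup (Y →* U)) : ℕ := dl (⊤ : Subgroup Y) - dl (ann E)

variable [Finite Y]

theorem cd_add (E : Subgroup (Y →* U)) : cd E + dl (ann E) = dl (⊤ : Subgroup Y) :=
  Nat.sub_add_cancel (dl_mono le_top)

theorem cd_mono {E F : Subgroup (Y →* U)} (h : E ≤ F) : cd E ≤ cd F :=
  Nat.sub_le_sub_left (dl_mono (ann_anti h)) _

theorem cd_bot : cd (⊥ : Subgroup (Y →* U)) = 0 := by rw [cd, ann_bot, Nat.sub_self]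

theorem cd_sup_add_inf (hY : Exp2 Y) (E F : Subgroup (Y →* U)) :
    cd (E ⊔ F) + cd (E ⊓ F) ≤ cd E + cd F := by
  have h1 := dl_sup_add_inf hY (ann E) (ann F)
  rw [← ann_sup] at h1
  have h2 := dl_mono (ann_inf E F)
  have := cd_add E
  have := cd_add F
  have := cd_add (E ⊔ F)
  have := cd_add (E ⊓ F)
  omega

variable [Finite (Y →* U)]

/-- `d₀ / c₀` bounds the ratio `dim / codim` below `M`. -/
def Bound (c₀ d₀ : ℕ) (M : Subgroup (Y →* U)) : Prop := ∀ E ≤ M, dl E * c₀ ≤ d₀ * cd E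

/-- The ratio is attained. -/
def Tight (c₀ d₀ : ℕ) (E : Subgroup (Y →* U)) : Prop := dl E * c₀ = d₀ * cd E

theorem tight_bot (c₀ d₀ : ℕ) : Tight c₀ d₀ (⊥ : Subgroup (Y →* U)) := by simp [Tight, dl_bot, cd_bot]

theorem tight_sup (hY : Exp2 Y) (hU : Exp2 U) {c₀ d₀ : ℕ} {M : Subgroup (Y →* U)} (hM : Bound c₀ d₀ M)
    {E F : Subgroup (Y →* U)} (hE : E ≤ M) (hF : F ≤ M) (tE : Tight c₀ d₀ E) (tF : Tight c₀ d₀ F) :
    Tight c₀ d₀ (E ⊔ F) := by
  refine le_antisymm (hM _ (sup_le hE hF)) ?_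
  have h1 := dl_sup_add_inf hU.hom E F
  have h2 := cd_sup_add_inf hY E F
  have h3 := hM (E ⊓ F) (inf_le_left.trans hE)
  unfold Tight at tE tF
  refine Nat.le_of_add_le_add_right (b := dl (E ⊓ F) * c₀) ?_
  calc d₀ * cd (E ⊔ F) + dl (E ⊓ F) * c₀ ≤ d₀ * (cd E + cd F) := by
        have := Nat.mul_le_mul_left d₀ h2
        rw [Nat.mul_add] at this
        omega
    _ = dl (E ⊔ F) * c₀ + dl (E ⊓ F) * c₀ := by rw [← Nat.add_mul, h1, Nat.add_mul, tE, tF, Nat.mul_add]

theorem tight_iSup (hY : Exp2 Y) (hU : Exp2 U) {c₀ d₀ : ℕ} {M : Subgroup (Y →* U)} (hM : Bound c₀ d₀ M)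
    {ι : Type*} [Finite ι] (f : ι → Subgroup (Y →* U)) (hf : ∀ i, f i ≤ M) (ht : ∀ i, Tight c₀ d₀ (f i)) :
    Tight c₀ d₀ (⨆ i, f i) := by
  classical
  haveI := Fintype.ofFinite ι
  have h : ∀ s : Finset ι, s.sup f ≤ M ∧ Tight c₀ d₀ (s.sup f) := by
    intro s
    induction s using Finset.induction with
    | empty => exact ⟨by simp, by simpa using tight_bot c₀ d₀⟩
    | insert i s _ ih =>
      rw [Finset.sup_insert]
      exact ⟨sup_le (hf i) ih.1, tight_sup hY hU hM (hf i) ih.1 (ht i) ih.2⟩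
  have e : (⨆ i, f i) = Finset.univ.sup f :=
    le_antisymm (iSup_le fun i => Finset.le_sup (Finset.mem_univ i)) (Finset.sup_le fun i _ => le_iSup f i)
  rw [e]
  exact (h _).2

end Pair

/-- Precomposition. -/
def pre {X Y U : Type*} [CommGroup X] [CommGroup Y] [CommGroup U] (ψ : X →* Y) : (Y →* U) →* (X →* U) where
  toFun z := z.comp ψ
  map_one' := rfl
  map_mul' _ _ := rfl

@[simp] theorem pre_apply {X Y U : Type*} [CommGroup X] [CommGroup Y] [CommGroup U] (ψ : X →* Y) (z : Y →* U) :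
    pre ψ z = z.comp ψ := rfl

theorem finite_hom (X U : Type*) [CommGroup X] [CommGroup U] [Finite X] [Finite U] : Finite (X →* U) :=
  Finite.of_injective (fun f : X →* U => (f : X → U)) DFunLike.coe_injective

end CfsgLib.Fusion.SFreeFF
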