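import Cfsg.Agent.Lib.Fusion.SFreeFF.Dim
import Cfsg.Agent.Lib.Fusion.CentralOffender

/-!
A quadratic group acting on a module whose irreducible representations admit no quadratic offender has a small
image modulo a normal subgroup acting as a 2-group.
-/

set_option autoImplicit false
set_option linter.unusedSectionVars false
set_option linter.style.haveILetI false

namespace CfsgLib.Fusion.SFreeFF

open CfsgLib.Fusion.CentralOffender CfsgLib.Solvable

universe u

/-- No invariant subgroup other than the trivial ones. -/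
def Irred {G W : Type u} [Group G] [CommGroup W] (ψ : G →* MulAut W) : Prop :=
  ∀ U : Subgroup W, (∀ g, ∀ u ∈ U, ψ g u ∈ U) → U = ⊥ ∨ U = ⊤

/-- No irreducible representation admits a quadratic offender. -/
def IrrFree (G : Type u) [Group G] : Prop :=
  ∀ (W : Type u) [CommGroup W] [Finite W] (ψ : G →* MulAut W), Exp2 W → Irred ψ →
    ∀ A : Subgroup G, Quad ψ A → ¬ A ≤ ψ.ker → ψ.ker.relIndex A < (fix ψ A).index

/-- The theorem for the groups of order below `n`. -/
def NF (n : ℕ) : Prop :=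
  ∀ (V : Type u) [CommGroup V] [Finite V] (H : Type u) [Group H] [Finite H] (φ : H →* MulAut V),
    Nat.card H < n → Function.Injective φ → Exp2 V → Cfsg.pCore 2 H = ⊥ → NoS3 H →
    ∀ A : Subgroup H, A ≠ ⊥ → Quad φ A → wt φ A < Nat.card V

variable {G : Type u} [Group G] {W : Type u} [CommGroup W]

theorem finite_mulAut (W : Type u) [CommGroup W] [Finite W] : Finite (MulAut W) :=
  Finite.of_injective (fun α : MulAut W => (α : W → W)) DFunLike.coe_injective

theorem apply_sq (χ : G →* MulAut W) (h2 : Exp2 W) {U : Subgroup W} {x : G} (h1 : ∀ u ∈ U, χ x u = u)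
    (h3 : ∀ v, χ x v * v⁻¹ ∈ U) : χ (x * x) = 1 := by
  refine MulEquiv.ext fun v => ?_
  show χ (x * x) v = v
  rw [apply_mul]
  have e : χ x v = (χ x v * v⁻¹) * v := (inv_mul_cancel_right _ _).symm
  calc χ x (χ x v) = χ x ((χ x v * v⁻¹) * v) := by rw [← e]
    _ = (χ x v * v⁻¹) * ((χ x v * v⁻¹) * v) := by rw [map_mul, h1 _ (h3 v), ← e]
    _ = v := by rw [← mul_assoc, h2, one_mul]

variable [Finite W]

/-- The index of the fixed points is at least the product over an invariant subgroup and the quotient. -/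
theorem index_fix_le (χ : G →* MulAut W) {U : Subgroup W} (hU : ∀ g, ∀ u ∈ U, χ g u ∈ U) (A : Subgroup G) :
    (fix (restr χ U hU) A).index * (fix (quot χ U hU) A).index ≤ (fix χ A).index := by
  set F := fix χ A
  have h1 : F.map (QuotientGroup.mk' U) ≤ fix (quot χ U hU) A := by
    rintro _ ⟨v, hv, rfl⟩ a ha
    exact congrArg QuotientGroup.mk (hv a ha)
  have h2 : fix (restr χ U hU) A = F.subgroupOf U := by
    ext u
    exact ⟨fun h e he => congrArg Subtype.val (h e he), fun h e he => Subtype.ext (h e he)⟩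
  have h3 : (F ⊔ U).index = (F.map (QuotientGroup.mk' U)).index := by
    rw [Subgroup.index_map, QuotientGroup.ker_mk',
      MonoidHom.range_eq_top.mpr (QuotientGroup.mk'_surjective U), Subgroup.index_top, mul_one]
  have h4 : F.relIndex U = F.relIndex (F ⊔ U) := by rw [sup_comm, Subgroup.relIndex_sup_right]
  rw [h2, ← Subgroup.relIndex, h4]
  calc F.relIndex (F ⊔ U) * (fix (quot χ U hU) A).index ≤ F.relIndex (F ⊔ U) * (F ⊔ U).index :=
        Nat.mul_le_mul_left _ (h3 ▸ Nat.le_of_dvd (Nat.pos_of_ne_zero Subgroup.index_ne_zero_of_finite)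
          (Subgroup.index_dvd_of_le h1))
    _ = F.index := Subgroup.relIndex_mul_index le_sup_left

/-- The image of a quadratic group modulo a normal subgroup acting as a 2-group is small. -/
theorem exists_normal_small [Finite G] (hG : IrrFree G) :
    ∀ (W : Type u) [CommGroup W] [Finite W], Exp2 W → ∀ (χ : G →* MulAut W) (A : Subgroup G), Quad χ A →
      ∃ S : Subgroup G, S.Normal ∧ (∀ x ∈ S, ∃ k : ℕ, χ (x ^ 2 ^ k) = 1) ∧
        (A ≤ S ∨ S.relIndex A < (fix χ A).index) := by
  suffices ∀ (n : ℕ) (W : Type u) [CommGroup W] [Finite W], Nat.card W = n → Exp2 W →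
      ∀ (χ : G →* MulAut W) (A : Subgroup G), Quad χ A →
      ∃ S : Subgroup G, S.Normal ∧ (∀ x ∈ S, ∃ k : ℕ, χ (x ^ 2 ^ k) = 1) ∧
        (A ≤ S ∨ S.relIndex A < (fix χ A).index) from fun W _ _ => this _ W rfl
  intro n
  induction n using Nat.strong_induction_on with
  | _ n ih => ?_
  intro W _ _ hn h2 χ A hq
  by_cases hirr : Irred χ
  · refine ⟨χ.ker, inferInstance, fun x hx => ⟨0, by rw [pow_zero, pow_one]; exact hx⟩, ?_⟩
    exact (em (A ≤ χ.ker)).imp id (hG W χ h2 hirr A hq)
  unfold Irred at hirr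
  push Not at hirr
  obtain ⟨U, hU, hUb, hUt⟩ := hirr
  have hUlt : Nat.card U < n := hn ▸ lt_of_le_of_ne (Subgroup.card_le_card_group U)
    fun h => hUt (Subgroup.eq_top_of_card_eq U h)
  have hQlt : Nat.card (W ⧸ U) < n := by
    rw [← hn, ← U.index_mul_card, Subgroup.index]
    exact lt_mul_of_one_lt_right Nat.card_pos (by
      by_contra h
      exact hUb (Subgroup.card_eq_one.mp (le_antisymm (not_lt.mp h) Nat.card_pos)))
  obtain ⟨S₁, n₁, p₁, c₁⟩ := ih _ hUlt U rfl (h2.subgroup U) _ A (quad_restr χ hU hq)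
  obtain ⟨S₂, n₂, p₂, c₂⟩ := ih _ hQlt (W ⧸ U) rfl (h2.quotient U) _ A (quad_quot χ hU hq)
  haveI := n₁
  haveI := n₂
  refine ⟨S₁ ⊓ S₂, inferInstance, fun x hx => ?_, ?_⟩
  · obtain ⟨k, hk⟩ := p₁ x hx.1
    obtain ⟨l, hl⟩ := p₂ x hx.2
    refine ⟨k + l + 1, ?_⟩
    rw [pow_succ 2, pow_mul, pow_two]
    refine apply_sq χ h2 (U := U) (fun u hu => ?_) (fun v => ?_)
    · have : restr χ U hU (x ^ 2 ^ (k + l)) = 1 := by
        rw [pow_add, pow_mul, map_pow, hk, one_pow]
      exact congrArg Subtype.val (DFunLike.congr_fun this (⟨u, hu⟩ : U))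
    · have : quot χ U hU (x ^ 2 ^ (k + l)) = 1 := by
        rw [add_comm k l, pow_add, pow_mul, map_pow, hl, one_pow]
      exact (eq_mk_iff U _ _).1 (DFunLike.congr_fun this (QuotientGroup.mk v))
  · have hidx := index_fix_le χ hU A
    have p : 0 < (fix (restr χ U hU) A).index := Nat.pos_of_ne_zero Subgroup.index_ne_zero_of_finite
    have q : 0 < (fix (quot χ U hU) A).index := Nat.pos_of_ne_zero Subgroup.index_ne_zero_of_finite
    have hr := Subgroup.relIndex_inf_le (H := S₁) (K := S₂) (L := A)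
    rcases c₁ with a₁ | b₁ <;> rcases c₂ with a₂ | b₂
    · exact Or.inl (le_inf a₁ a₂)
    · rw [Subgroup.relIndex_eq_one.mpr a₁, one_mul] at hr
      exact Or.inr (hr.trans_lt (b₂.trans_le ((Nat.le_mul_of_pos_left _ p).trans hidx)))
    · rw [Subgroup.relIndex_eq_one.mpr a₂, mul_one] at hr
      exact Or.inr (hr.trans_lt (b₁.trans_le ((Nat.le_mul_of_pos_right _ q).trans hidx)))
    · exact Or.inr (hr.trans_lt ((Nat.mul_lt_mul'' b₁ b₂).trans_le hidx))

/-- The group induced on an irreducible module has trivial 2-core. -/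
theorem pCore_range_eq_bot {ψ : G →* MulAut W} (h2 : Exp2 W) (hirr : Irred ψ) :
    Cfsg.pCore 2 ψ.range = ⊥ := by
  haveI := finite_mulAut W
  by_cases hW : Nat.card W = 1
  · haveI := (Nat.card_eq_one_iff_unique.1 hW).1
    exact (Subgroup.eq_bot_iff_forall _).2 fun x _ => Subtype.ext (MulEquiv.ext fun v => Subsingleton.elim _ _)
  set Q := Cfsg.pCore 2 ψ.range
  haveI hQn : Q.Normal := Cores.pCore_normal 2
  set U := fix ψ.range.subtype Q with hUdef
  have hU : ∀ g, ∀ u ∈ U, ψ g u ∈ U := fun g u hu q hq => by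
    have := hu _ (hQn.conj_mem q hq (ψ.rangeRestrict g)⁻¹)
    show ψ.range.subtype q (ψ.range.subtype (ψ.rangeRestrict g) u) = ψ g u
    rw [← apply_mul, show q * ψ.rangeRestrict g =
      ψ.rangeRestrict g * ((ψ.rangeRestrict g)⁻¹ * q * (ψ.rangeRestrict g)⁻¹⁻¹) by group, apply_mul, this]
    rfl
  have hne : U ≠ ⊥ := exists_fixed (φ := ψ.range.subtype) (Cores.isPGroup_pCore 2) h2 hW
  have htop := (hirr U hU).resolve_left hne
  exact (Subgroup.eq_bot_iff_forall _).2 fun q hq => Subtype.ext (MulEquiv.ext fun v =>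
    ((htop.symm ▸ Subgroup.mem_top v : v ∈ U) q hq))

/-- Representations with small image and trivial 2-core admit no quadratic offender. -/
theorem NF.core {n : ℕ} (IH : NF.{u} n) [Finite G] (hG : NoS3 G) {ψ : G →* MulAut W} (h2 : Exp2 W)
    (hcore : Cfsg.pCore 2 ψ.range = ⊥) (hn : Nat.card ψ.range < n) {A : Subgroup G} (hq : Quad ψ A)
    (hA : ¬ A ≤ ψ.ker) : ψ.ker.relIndex A < (fix ψ A).index := by
  have hne : A.map ψ.rangeRestrict ≠ ⊥ := fun h => hA fun x hx => congrArg Subtype.val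
    ((Subgroup.eq_bot_iff_forall _).1 h _ ⟨x, hx, rfl⟩)
  have h := IH W ψ.range ψ.range.subtype hn Subtype.val_injective h2 hcore
    (noS3_range hG ψ) (A.map ψ.rangeRestrict) hne (by
      rintro _ ⟨e, he, rfl⟩ _ ⟨f, hf, rfl⟩ v
      exact hq e he f hf v)
  have hf : fix ψ.range.subtype (A.map ψ.rangeRestrict) = fix ψ A := by
    ext v
    exact ⟨fun h e he => h _ ⟨e, he, rfl⟩, by rintro h _ ⟨e, he, rfl⟩; exact h e he⟩
  have hc : Nat.card (A.map ψ.rangeRestrict) = ψ.ker.relIndex A := by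
    rw [← Subgroup.relIndex_ker, MonoidHom.ker_rangeRestrict]
  rw [wt, hf, hc, ← (fix ψ A).index_mul_card] at h
  exact Nat.lt_of_mul_lt_mul_right h

/-- Irreducible representations with small image admit no quadratic offender. -/
theorem NF.irr {n : ℕ} (IH : NF.{u} n) [Finite G] (hG : NoS3 G) {ψ : G →* MulAut W} (h2 : Exp2 W)
    (hirr : Irred ψ) (hn : Nat.card ψ.range < n) {A : Subgroup G} (hq : Quad ψ A) (hA : ¬ A ≤ ψ.ker) :
    ψ.ker.relIndex A < (fix ψ A).index :=
  IH.core hG h2 (pCore_range_eq_bot h2 hirr) hn hq hA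

/-- Small groups have no irreducible representation with a quadratic offender. -/
theorem NF.irrFree {n : ℕ} (IH : NF.{u} n) (G : Type u) [Group G] [Finite G] (hG : NoS3 G)
    (hn : Nat.card G < n) : IrrFree G := fun _ _ _ _ h2 hirr _ hq hA =>
  IH.irr hG h2 hirr (lt_of_le_of_lt (Nat.card_le_card_of_surjective _ (MonoidHom.rangeRestrict_surjective _)) hn)
    hq hA

end CfsgLib.Fusion.SFreeFF
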