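import Cfsg.Agent.Lib.Fusion.SFreeFF.Main
import Cfsg.Agent.Lib.Fusion.ReplacementEA
import Cfsg.Agent.Lib.FusionSystem.SectionFree
import Cfsg.Agent.S2759

/-!
Factorisations in groups without a section `S₄`: `X = C_X(Z(T)) N_X(J(T))` when `C_X(O₂(X)) ≤ O₂(X)`.
-/

set_option autoImplicit false
set_option linter.unusedSectionVars false
set_option linter.style.haveILetI false

open scoped commutatorElement

namespace CfsgLib.Fusion.SFreeFF

open Subgroup
open CfsgLib.Fusion.CentralOffender (NoS3 fix wt Quad mem_fix)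

universe u

variable {X : Type u} [Group X] [Finite X]

/-- The automiser of a normal 2-subgroup has no section `S₃`. -/
theorem noS3_quotient (h : ¬ Cfsg.Involves (Equiv.Perm (Fin 4)) X) {V : Subgroup X} [V.Normal]
    (hV : IsPGroup 2 V) : ¬ Cfsg.Involves (Equiv.Perm (Fin 3)) (X ⧸ centralizer (V : Set X)) := by
  intro hi
  refine h (Cfsg.Agent.S2759.result.2 ⟨V, hV, ?_⟩)
  let f : ↥(normalizer (V : Set X)) ⧸ (centralizer (V : Set X)).subgroupOf (normalizer (V : Set X)) →*
      X ⧸ centralizer (V : Set X) :=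
    QuotientGroup.map _ _ (normalizer (V : Set X)).subtype fun x hx => hx
  refine CfsgLib.Fsys.involves_of_surjective (e := f) (fun y => ?_) hi
  induction y using QuotientGroup.induction_on with
  | H g => exact ⟨QuotientGroup.mk (⟨g, by rw [normalizer_eq_top]; trivial⟩ : normalizer (V : Set X)), rfl⟩

/-- A quadratic offender centralises a reduced normal elementary abelian 2-subgroup. -/
theorem le_centralizer_of_quadratic (h4 : ¬ Cfsg.Involves (Equiv.Perm (Fin 4)) X) {V : Subgroup X} [V.Normal]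
    (hV : Cfsg.IsElementaryAbelian 2 V)
    (hred : ∀ R : Subgroup X, R.Normal → (∀ x ∈ R, ∃ k : ℕ, x ^ 2 ^ k ∈ centralizer (V : Set X)) →
      R ≤ centralizer (V : Set X))
    {B : Subgroup X} (hq : ⁅⁅V, B⁆, B⁆ = ⊥)
    (hw : Nat.card V * Nat.card ↥(B ⊓ centralizer (V : Set X)) ≤
      Nat.card B * Nat.card ↥(V ⊓ centralizer (B : Set X))) :
    B ≤ centralizer (V : Set X) := by
  haveI := hV.1
  letI : CommGroup V := { (inferInstance : Group V) with mul_comm := hV.1.is_comm.comm }
  let χ : X →* MulAut V := MulAut.conjNormal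
  have hker : χ.ker = centralizer (V : Set X) := by
    ext x
    constructor
    · intro hx
      refine mem_centralizer_iff.mpr fun v hv => ?_
      have := congrArg Subtype.val (DFunLike.congr_fun (MonoidHom.mem_ker.mp hx) (⟨v, hv⟩ : V))
      rw [MulAut.conjNormal_apply] at this
      exact (mul_inv_eq_iff_eq_mul.mp this).symm
    · intro hx
      refine MonoidHom.mem_ker.mpr (MulEquiv.ext fun v => Subtype.ext ?_)
      rw [MulAut.conjNormal_apply, ← mem_centralizer_iff.mp hx v v.2, mul_inv_cancel_right]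
      rfl
  haveI := finite_mulAut V
  have hcore : Cfsg.pCore 2 χ.range = ⊥ := by
    haveI := (CfsgLib.Solvable.Cores.pCore_normal (G := χ.range) 2).comap χ.rangeRestrict
    have hR := hred ((Cfsg.pCore 2 χ.range).comap χ.rangeRestrict) inferInstance fun x hx => by
      obtain ⟨k, hk⟩ := CfsgLib.Solvable.Cores.isPGroup_pCore 2 ⟨_, hx⟩
      refine ⟨k, hker ▸ MonoidHom.mem_ker.mpr ?_⟩
      have h : χ.rangeRestrict x ^ 2 ^ k = 1 := congrArg Subtype.val hk
      rw [← map_pow] at h
      exact congrArg Subtype.val h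
    refine (Subgroup.eq_bot_iff_forall _).mpr fun y hy => ?_
    obtain ⟨x, rfl⟩ := χ.rangeRestrict_surjective y
    exact Subtype.ext (MonoidHom.mem_ker.mp (hker.ge (hR hy)))
  have hS3 : NoS3 χ.range := fun hi => by
    refine noS3_quotient h4 (CfsgLib.Fusion.Thompson.isPGroup_isEA hV) ?_
    refine CfsgLib.Fsys.involves_of_surjective
      (e := QuotientGroup.lift (centralizer (V : Set X)) χ.rangeRestrict fun x hx =>
        MonoidHom.mem_ker.mpr (Subtype.ext (MonoidHom.mem_ker.mp (hker.ge hx)))) (fun y => ?_) hi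
    obtain ⟨x, rfl⟩ := χ.rangeRestrict_surjective y
    exact ⟨QuotientGroup.mk x, rfl⟩
  by_contra hnot
  have hne : B.map χ.rangeRestrict ≠ ⊥ := fun h => hnot fun x hx => hker ▸ MonoidHom.mem_ker.mpr
    (congrArg Subtype.val ((Subgroup.eq_bot_iff_forall _).mp h _ ⟨x, hx, rfl⟩))
  have hquad : Quad χ.range.subtype (B.map χ.rangeRestrict) := by
    rintro _ ⟨e, he, rfl⟩ _ ⟨f, hf, rfl⟩ v
    refine Subtype.ext ?_
    show (χ e (χ f v * v⁻¹) : X) = (χ f v * v⁻¹ : V)
    rw [MulAut.conjNormal_apply]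
    have hm : ((χ f v * v⁻¹ : V) : X) ∈ ⁅V, B⁆ := by
      rw [Subgroup.coe_mul, MulAut.conjNormal_apply, Subgroup.coe_inv]
      have h := inv_mem (Subgroup.commutator_mem_commutator v.2 hf)
      rwa [commutatorElement_inv, commutatorElement_def] at h
    have h := (commutator_eq_bot_iff_le_centralizer.mp hq) hm
    rw [← mem_centralizer_iff.mp h e he |> fun h => h.symm, mul_inv_cancel_right]
  have h := no_offender χ.range.subtype Subtype.val_injective (fun v => Subtype.ext (by
    rw [Subgroup.coe_mul, ← pow_two]; exact hV.2 v v.2)) hcore hS3 hne hquad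
  have hf : fix χ.range.subtype (B.map χ.rangeRestrict) = (V ⊓ centralizer (B : Set X)).subgroupOf V := by
    ext v
    constructor
    · intro hv
      refine mem_subgroupOf.mpr ⟨v.2, mem_centralizer_iff.mpr fun b hb => ?_⟩
      have := congrArg Subtype.val (hv _ ⟨b, hb, rfl⟩)
      exact mul_inv_eq_iff_eq_mul.mp ((MulAut.conjNormal_apply b v).symm.trans this)
    · rintro hv _ ⟨b, hb, rfl⟩
      refine Subtype.ext ((MulAut.conjNormal_apply b v).trans ?_)
      rw [mem_centralizer_iff.mp (mem_subgroupOf.mp hv).2 b hb, mul_inv_cancel_right]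
  have hc : Nat.card (B.map χ.rangeRestrict) * Nat.card ↥(B ⊓ centralizer (V : Set X)) = Nat.card B := by
    rw [← hker, ← MonoidHom.ker_rangeRestrict χ, ← relIndex_ker, ← inf_relIndex_left, inf_comm]
    have h1 := relIndex_mul_relIndex (⊥ : Subgroup X) (B ⊓ χ.rangeRestrict.ker) B bot_le inf_le_left
    rw [relIndex_bot_left, relIndex_bot_left] at h1
    rw [← h1]
    simp only [inf_comm]
    rw [mul_comm]
  rw [wt, hf, Nat.card_congr (subgroupOfEquivOfLe inf_le_left).toEquiv] at h
  have h' := Nat.mul_lt_mul_of_pos_right h (Nat.card_pos (α := ↥(B ⊓ centralizer (V : Set X))))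
  rw [mul_right_comm, hc] at h'
  exact absurd hw (not_le.mpr h')

/-- Elementary abelian subgroups of largest order of a 2-subgroup centralise a reduced module inside it. -/
theorem thompson_le_centralizer (h4 : ¬ Cfsg.Involves (Equiv.Perm (Fin 4)) X) {V : Subgroup X} [V.Normal]
    (hV : Cfsg.IsElementaryAbelian 2 V)
    (hred : ∀ R : Subgroup X, R.Normal → (∀ x ∈ R, ∃ k : ℕ, x ^ 2 ^ k ∈ centralizer (V : Set X)) →
      R ≤ centralizer (V : Set X))
    {T : Subgroup X} (hVT : V ≤ T) :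
    Cfsg.thompsonSubgroupOf 2 T ≤ centralizer (V : Set X) := by
  haveI : Fact (Nat.Prime 2) := ⟨Nat.prime_two⟩
  rw [Cfsg.thompsonSubgroupOf, map_le_iff_le_comap]
  refine sSup_le fun A hA => ?_
  set W := V.subgroupOf T with hW
  haveI : W.Normal := inferInstance
  have hWea : Cfsg.IsElementaryAbelian 2 W := CfsgLib.Fusion.Thompson.isEA_subgroupOf hV T
  obtain ⟨hA', hq, hnt⟩ := ReplacementEA.replacement hWea hA
  set A' := ⁅W, A⁆ ⊔ (A ⊓ centralizer ((⁅W, A⁆ : Subgroup T) : Set T))
  have hWmap : W.map T.subtype = V := map_subgroupOf_eq_of_le hVT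
  have hcent : ∀ B : Subgroup T, (W ⊓ centralizer (B : Set T)).map T.subtype =
      V ⊓ centralizer ((B.map T.subtype : Subgroup X) : Set X) := by
    intro B
    ext x
    constructor
    · rintro ⟨y, ⟨hy, hyB⟩, rfl⟩
      refine ⟨hy, mem_centralizer_iff.mpr ?_⟩
      rintro _ ⟨b, hb, rfl⟩
      exact congrArg Subtype.val (mem_centralizer_iff.mp hyB b hb)
    · rintro ⟨hxV, hxB⟩
      exact ⟨⟨x, hVT hxV⟩, ⟨hxV, mem_centralizer_iff.mpr fun b hb => Subtype.ext
        (mem_centralizer_iff.mp hxB _ ⟨b, hb, rfl⟩)⟩, rfl⟩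
  have hcent' : ∀ B : Subgroup T, (B ⊓ centralizer (W : Set T)).map T.subtype =
      B.map T.subtype ⊓ centralizer (V : Set X) := by
    intro B
    ext x
    constructor
    · rintro ⟨y, ⟨hy, hyV⟩, rfl⟩
      exact ⟨⟨y, hy, rfl⟩, mem_centralizer_iff.mpr fun v hv =>
        congrArg Subtype.val (mem_centralizer_iff.mp hyV ⟨v, hVT hv⟩ hv)⟩
    · rintro ⟨⟨y, hy, rfl⟩, hyV⟩
      exact ⟨y, ⟨hy, mem_centralizer_iff.mpr fun v hv => Subtype.ext (mem_centralizer_iff.mp hyV v hv)⟩, rfl⟩
  have hA'C : A' ≤ centralizer (W : Set T) := by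
    have hB : A'.map T.subtype ≤ centralizer (V : Set X) := by
      refine le_centralizer_of_quadratic h4 hV hred ?_ ?_
      · rw [← hWmap, ← map_commutator, ← map_commutator, hq, Subgroup.map_bot]
      · have h := (Cfsg.Agent.S0606.result W hWea A' hA').1 (A' ⊓ centralizer (W : Set T)) inf_le_left
        have hfull : W ⊓ centralizer ((A' ⊓ centralizer (W : Set T) : Subgroup T) : Set T) = W :=
          inf_eq_left.mpr (le_centralizer_iff.mp inf_le_right)
        rw [hfull] at h
        rw [← hcent, ← hcent', ← hWmap, card_map_of_injective T.subtype_injective,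
          card_map_of_injective T.subtype_injective, card_map_of_injective T.subtype_injective,
          card_map_of_injective T.subtype_injective, mul_comm]
        exact h
    exact fun x hx => mem_centralizer_iff.mpr fun v hv => Subtype.ext
      (mem_centralizer_iff.mp (hB ⟨x, hx, rfl⟩) v hv)
  have hWA : ⁅W, A⁆ = ⊥ := by
    by_contra hne
    exact hnt hne (commutator_eq_bot_iff_le_centralizer.mpr (le_centralizer_iff.mp hA'C))
  intro x hx
  exact mem_centralizer_iff.mpr fun v hv => congrArg Subtype.val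
    (mem_centralizer_iff.mp (le_centralizer_iff.mp (commutator_eq_bot_iff_le_centralizer.mp hWA) hx) ⟨v, hVT hv⟩ hv)

/-- An element of odd order fixing the involutions of an abelian 2-group it normalises centralises it. -/
theorem commute_of_fix_involutions {W : Subgroup X} (hWc : ∀ a ∈ W, ∀ b ∈ W, a * b = b * a) {y : X}
    (hyW : ∀ w ∈ W, y * w * y⁻¹ ∈ W) (hy : Odd (orderOf y)) (hW2 : IsPGroup 2 W)
    (hfix : ∀ w ∈ W, w ^ 2 = 1 → y * w * y⁻¹ = w) : ∀ w ∈ W, y * w * y⁻¹ = w := by
  suffices ∀ (n : ℕ) (w : X), w ∈ W → w ^ 2 ^ n = 1 → y * w * y⁻¹ = w by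
    intro w hw
    obtain ⟨n, hn⟩ := hW2 ⟨w, hw⟩
    exact this n w hw (congrArg Subtype.val hn)
  intro n
  induction n with
  | zero => intro w _ h; rw [pow_zero, pow_one] at h; rw [h]; group
  | succ n ih =>
    intro w hw h
    rw [pow_succ', pow_mul] at h
    have h1 := ih _ (W.pow_mem hw 2) h
    set d := y * w * y⁻¹ * w⁻¹ with hd
    have hdW : d ∈ W := mul_mem (hyW w hw) (inv_mem hw)
    have hd2 : d ^ 2 = 1 := by
      have hc : Commute (y * w * y⁻¹) w⁻¹ := hWc _ (hyW w hw) _ (inv_mem hw)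
      rw [hd, hc.mul_pow, conj_pow, h1, inv_pow, mul_inv_cancel]
    have hdy := hfix d hdW hd2
    have hm : ∀ m : ℕ, y ^ m * w * (y ^ m)⁻¹ = d ^ m * w := by
      intro m
      induction m with
      | zero => simp
      | succ m ihm =>
        calc y ^ (m + 1) * w * (y ^ (m + 1))⁻¹ = y * (y ^ m * w * (y ^ m)⁻¹) * y⁻¹ := by
              rw [pow_succ' y m]; group
          _ = y * (d ^ m * w) * y⁻¹ := by rw [ihm]
          _ = (y * d * y⁻¹) ^ m * (y * w * y⁻¹) := by rw [conj_pow]; group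
          _ = d ^ (m + 1) * w := by
            rw [hdy, pow_succ, mul_assoc (d ^ m), hd, inv_mul_cancel_right]
    have h3 := hm (orderOf y)
    rw [pow_orderOf_eq_one, one_mul, inv_one, mul_one] at h3
    have h4 : d ^ orderOf y = 1 := mul_eq_right.mp h3.symm
    obtain ⟨m, hmeq⟩ := hy
    rw [hmeq, pow_succ, pow_mul, hd2, one_pow, one_mul] at h4
    exact mul_inv_eq_one.mp h4

/-- The factorisation. -/
theorem factorisation (h4 : ¬ Cfsg.Involves (Equiv.Perm (Fin 4)) X)
    (hc : centralizer (Cfsg.pCore 2 X : Set X) ≤ Cfsg.pCore 2 X) (T : Sylow 2 X) (x : X) :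
    ∃ a ∈ centralizer (((T : Subgroup X) ⊓ centralizer ((T : Subgroup X) : Set X) : Subgroup X) : Set X),
      ∃ b ∈ normalizer (Cfsg.thompsonSubgroupOf 2 (T : Subgroup X) : Set X), x = a * b := by
  haveI : Fact (Nat.Prime 2) := ⟨Nat.prime_two⟩
  set Q := Cfsg.pCore 2 X
  haveI : Q.Normal := CfsgLib.Solvable.Cores.pCore_normal 2
  set Z := (T : Subgroup X) ⊓ centralizer ((T : Subgroup X) : Set X) with hZdef
  have hQT : Q ≤ (T : Subgroup X) := CfsgLib.Solvable.Cores.pCore_le_sylow T
  have hZQ : Z ≤ Q := fun z hz => hc (centralizer_le (SetLike.coe_subset_coe.mpr hQT) hz.2)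
  set W := normalClosure (Z : Set X) with hWdef
  haveI : (centralizer (Q : Set X)).Normal := normal_centralizer
  have hWQ : W ≤ Q := normalClosure_le_normal hZQ
  have hWc : W ≤ centralizer (Q : Set X) :=
    normalClosure_le_normal fun z hz => centralizer_le (SetLike.coe_subset_coe.mpr hQT) hz.2
  have hWab : ∀ a ∈ W, ∀ b ∈ W, a * b = b * a := fun a ha b hb =>
    mem_centralizer_iff.mp (hWc hb) a (hWQ ha)
  let V : Subgroup X :=
    { carrier := {w | w ∈ W ∧ w ^ 2 = 1}
      one_mem' := ⟨one_mem W, one_pow _⟩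
      mul_mem' := fun {a b} ha hb => ⟨mul_mem ha.1 hb.1, by
        rw [(show Commute a b from hWab a ha.1 b hb.1).mul_pow, ha.2, hb.2, one_mul]⟩
      inv_mem' := fun {a} ha => ⟨inv_mem ha.1, by rw [inv_pow, ha.2, inv_one]⟩ }
  haveI : V.Normal := ⟨fun v hv g => ⟨(normalClosure_normal.conj_mem v hv.1 g), by rw [conj_pow, hv.2]; group⟩⟩
  have hVea : Cfsg.IsElementaryAbelian 2 V :=
    ⟨IsMulCommutative.of_comm fun a b => Subtype.ext (hWab a a.2.1 b b.2.1), fun v hv => hv.2⟩
  set C := centralizer (V : Set X) with hCdef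
  haveI : C.Normal := normal_centralizer
  -- the action on `W`
  let χ : X →* MulAut W := MulAut.conjNormal
  have hχ : ∀ g : X, χ g = 1 → ∀ w ∈ W, g * w * g⁻¹ = w := fun g hg w hw =>
    (MulAut.conjNormal_apply g (⟨w, hw⟩ : W)).symm.trans
      (congrArg Subtype.val (DFunLike.congr_fun hg (⟨w, hw⟩ : W)))
  have hC2 : IsPGroup 2 (C.map χ) := by
    rintro ⟨_, c, hcC, rfl⟩
    obtain ⟨k, hk⟩ := CfsgLib.Fusion.Basic.exists_pow_coprime (p := 2) c
    refine ⟨k, Subtype.ext ?_⟩
    show χ c ^ 2 ^ k = 1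
    rw [← map_pow]
    refine MulEquiv.ext fun w => Subtype.ext ?_
    rw [MulAut.conjNormal_apply]
    refine commute_of_fix_involutions hWab (fun w hw => normalClosure_normal.conj_mem w hw _)
      (Nat.Coprime.odd_of_right hk) ((CfsgLib.Solvable.Cores.isPGroup_pCore 2).to_le hWQ) (fun v hv hv2 => ?_) w w.2
    rw [← mem_centralizer_iff.mp (C.pow_mem hcC (2 ^ k)) v ⟨hv, hv2⟩, mul_inv_cancel_right]
  have hT : SylIn (T : Subgroup X) ⊤ := ⟨le_top, T.2, fun P _ hP hle => T.3 hP hle⟩
  -- elements covered by the Sylow subgroup centralise `Z`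
  have hcov : ∀ R : Subgroup X, R.Normal → IsPGroup 2 (R.map χ) → R ≤ centralizer (Z : Set X) := by
    intro R hR hR2 r hr
    obtain ⟨t, ht, hte⟩ := ((hT.inf le_top (by rw [normalizer_eq_top]) : SylIn _ R).map_eq χ hR2).ge
      (mem_map_of_mem χ hr)
    refine mem_centralizer_iff.mpr fun z hz => ?_
    have hzW : z ∈ W := subset_normalClosure hz
    have h1 := hχ (t⁻¹ * r) (by rw [map_mul, map_inv, hte, inv_mul_cancel]) z hzW
    have h2 : t * z = z * t := mem_centralizer_iff.mp hz.2 t ht.1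
    have h3 : r * z * r⁻¹ = z := by
      calc r * z * r⁻¹ = t * (t⁻¹ * r * z * (t⁻¹ * r)⁻¹) * t⁻¹ := by group
        _ = z := by rw [h1, h2, mul_inv_cancel_right]
    exact (mul_inv_eq_iff_eq_mul.mp h3).symm
  have hCZ : C ≤ centralizer (Z : Set X) := hcov C inferInstance hC2
  have hred : ∀ R : Subgroup X, R.Normal → (∀ x ∈ R, ∃ k : ℕ, x ^ 2 ^ k ∈ C) → R ≤ C := by
    intro R hR hpow
    have hR2 : IsPGroup 2 (R.map χ) := by
      rintro ⟨_, r, hr, rfl⟩
      obtain ⟨k, hk⟩ := hpow r hr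
      obtain ⟨m, hm⟩ := hC2 ⟨χ (r ^ 2 ^ k), mem_map_of_mem χ hk⟩
      refine ⟨k + m, Subtype.ext ?_⟩
      show χ r ^ 2 ^ (k + m) = 1
      have hm' : χ (r ^ 2 ^ k) ^ 2 ^ m = 1 := congrArg Subtype.val hm
      rw [pow_add, pow_mul, ← map_pow]
      exact hm'
    have hZR : W ≤ centralizer (R : Set X) := by
      haveI := hR
      haveI : (centralizer (R : Set X)).Normal := normal_centralizer
      exact normalClosure_le_normal (le_centralizer_iff.mp (hcov R hR hR2))
    exact le_centralizer_iff.mp fun v hv => hZR hv.1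
  have hVT : V ≤ (T : Subgroup X) := fun v hv => hQT (hWQ hv.1)
  have hJ := thompson_le_centralizer h4 hVea hred hVT
  set R := (T : Subgroup X) ⊓ C with hRdef
  have hJR : Cfsg.thompsonSubgroupOf 2 R = Cfsg.thompsonSubgroupOf 2 (T : Subgroup X) := by
    have hle : Cfsg.thompsonSubgroup 2 (T : Subgroup X) ≤ R.subgroupOf (T : Subgroup X) := fun t ht =>
      ⟨t.2, hJ ⟨t, ht, rfl⟩⟩
    have h := congrArg (map (T : Subgroup X).subtype) (Thompson.thompsonSubgroupOf_eq_of_le hle)
    let e : R.subgroupOf (T : Subgroup X) ≃* R := subgroupOfEquivOfLe inf_le_left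
    rw [Cfsg.thompsonSubgroupOf, ← Thompson.map_thompson_equiv e]
    refine Eq.trans ?_ h
    rw [Cfsg.thompsonSubgroupOf, map_map, map_map]
    rfl
  have hfr := frattini hT (le_top : C ≤ ⊤) (by rw [normalizer_eq_top])
  rw [← hRdef, top_inf_eq] at hfr
  obtain ⟨a, ha, b, hb, rfl⟩ := mem_sup_of_normal_left.mp (hfr (mem_top x))
  exact ⟨a, hCZ ha, b, hJR ▸ Thompson.normalizer_le_normalizer_thompsonOf R hb, rfl⟩

end CfsgLib.Fusion.SFreeFF
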