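import Cfsg.Agent.Lib.Fusion.SFreeFF.Factorisation
import Cfsg.Agent.Lib.KGroups.Functor.Sections

/-!
The functors `Z` and `J` control fusion in every section of a group without a section `S₄`.
-/

set_option autoImplicit false
set_option linter.unusedSectionVars false
set_option linter.style.haveILetI false

namespace CfsgLib.Fusion.SFreeFF

open CfsgLib.KGroups.Functor

universe u

/-- The centre. -/
def zFunctor (Q : Type u) [Group Q] : Subgroup Q := Subgroup.center Q

/-- The Thompson subgroup. -/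
def jFunctor (p : ℕ) (Q : Type u) [Group Q] : Subgroup Q := Cfsg.thompsonSubgroup p Q

theorem inducedFunctor_zFunctor {G : Type u} [Group G] (P : Subgroup G) :
    Cfsg.inducedFunctor zFunctor P = P ⊓ Subgroup.centralizer (P : Set G) := by
  ext x
  constructor
  · rintro ⟨z, hz, rfl⟩
    exact ⟨z.2, Subgroup.mem_centralizer_iff.mpr fun q hq =>
      congrArg Subtype.val (Subgroup.mem_center_iff.mp hz ⟨q, hq⟩)⟩
  · rintro ⟨hx, hxc⟩
    exact ⟨⟨x, hx⟩, Subgroup.mem_center_iff.mpr fun q => Subtype.ext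
      (Subgroup.mem_centralizer_iff.mp hxc q q.2), rfl⟩

theorem isCharPFunctor_zFunctor (p : ℕ) [Fact p.Prime] : Cfsg.IsCharPFunctor.{u} p zFunctor := by
  refine ⟨fun Q _ _ hQ _ h => ?_, fun Q R _ _ _ _ φ => ?_⟩
  · haveI := hQ.center_nontrivial
    exact (Subgroup.nontrivial_iff_ne_bot _).mp ‹Nontrivial (Subgroup.center Q)› h
  · refine le_antisymm ?_ fun x hx => ⟨φ.symm x, ?_, φ.apply_symm_apply x⟩
    · rintro _ ⟨z, hz, rfl⟩
      refine Subgroup.mem_center_iff.mpr fun r => ?_
      show r * φ z = φ z * r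
      rw [← φ.apply_symm_apply r, ← map_mul, ← map_mul, Subgroup.mem_center_iff.mp hz]
    · refine Subgroup.mem_center_iff.mpr fun q => φ.injective ?_
      rw [map_mul, map_mul, φ.apply_symm_apply, Subgroup.mem_center_iff.mp hx]

theorem isCharPFunctor_jFunctor (p : ℕ) [Fact p.Prime] : Cfsg.IsCharPFunctor.{u} p (jFunctor p) := by
  refine ⟨fun Q _ _ hQ _ h => ?_, fun Q R _ _ _ _ φ => CfsgLib.Fusion.Thompson.map_thompson_equiv φ⟩
  obtain ⟨n, hn, hcard⟩ := hQ.nontrivial_iff_card.mp inferInstance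
  obtain ⟨x, hx⟩ := exists_prime_orderOf_dvd_card' (G := Q) p (by rw [hcard]; exact dvd_pow_self p (by omega))
  obtain ⟨A, hA⟩ := CfsgLib.Fusion.Thompson.exists_maxEA (p := p) (G := Q)
  have hE : Cfsg.IsElementaryAbelian p (Subgroup.zpowers x) :=
    ⟨inferInstance, fun y hy => by
      obtain ⟨k, rfl⟩ := hy
      show (x ^ k) ^ p = 1
      rw [← zpow_natCast, zpow_comm, zpow_natCast, ← hx, pow_orderOf_eq_one, one_zpow]⟩
  have hle := hA.2 _ hE
  rw [Nat.card_zpowers, hx, show A = ⊥ from le_bot_iff.mp (h ▸ le_sSup hA), Subgroup.card_bot] at hle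
  exact absurd hle (not_le.mpr (Fact.out : p.Prime).one_lt)

/-- The two functors. -/
def zjPair : Set (∀ (Q : Type u) [Group Q], Subgroup Q) := {zFunctor, jFunctor 2}

theorem isCharPFunctor_zjPair : ∀ W ∈ zjPair.{u}, Cfsg.IsCharPFunctor.{u} 2 W := by
  haveI : Fact (Nat.Prime 2) := ⟨Nat.prime_two⟩
  rintro W (rfl | rfl)
  exacts [isCharPFunctor_zFunctor 2, isCharPFunctor_jFunctor 2]

theorem sfree_section {G : Type u} [Group G] (h : ¬ Cfsg.Involves (Equiv.Perm (Fin 4)) G) (K R : Subgroup G)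
    [(R.subgroupOf K).Normal] : ¬ Cfsg.Involves (Equiv.Perm (Fin 4)) (K ⧸ R.subgroupOf K) := by
  intro hI
  obtain ⟨K', g, hg⟩ := CfsgLib.LocalEven.InvolvesDihedral.exists_surjective hI
  set L := (K'.comap (QuotientGroup.mk' (R.subgroupOf K))) with hL
  let e := L.equivMapOfInjective K.subtype K.subtype_injective
  have hs : Function.Surjective ((QuotientGroup.mk' (R.subgroupOf K)).subgroupComap K') :=
    MonoidHom.subgroupComap_surjective_of_surjective _ K' (QuotientGroup.mk'_surjective _)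
  exact h (CfsgLib.LocalEven.InvolvesDihedral.of_surjective (K := L.map K.subtype)
    ((g.comp ((QuotientGroup.mk' (R.subgroupOf K)).subgroupComap K')).comp e.symm.toMonoidHom)
    ((hg.comp hs).comp e.symm.surjective))

/-- Control of fusion by the pair. -/
theorem zjPair_controls {G : Type u} [Group G] [Finite G] (h : ¬ Cfsg.Involves (Equiv.Perm (Fin 4)) G)
    (X : Type u) [Group X] [Finite X] (hX : Sec G X) :
    Cfsg.FamilyControlsStrongFusionIn 2 (ind X zjPair) ⊤ := by
  haveI : Fact (Nat.Prime 2) := ⟨Nat.prime_two⟩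
  refine familyControls_of_sections (G := G) isCharPFunctor_zjPair (fun K R _ hc => ?_) X hX
  obtain ⟨T⟩ : Nonempty (Sylow 2 (K ⧸ R.subgroupOf K)) := inferInstance
  refine family_of_factor zFunctor (jFunctor 2) (isCharPFunctor_zFunctor 2) (isCharPFunctor_jFunctor 2) T
    fun x => ?_
  obtain ⟨a, ha, b, hb, e⟩ := factorisation (sfree_section h K R) hc T x
  refine ⟨a, ?_, b, hb, e⟩
  rw [inducedFunctor_zFunctor]
  exact Subgroup.centralizer_le_normalizer _ ha

end CfsgLib.Fusion.SFreeFF
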