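import Cfsg.Agent.Lib.Fusion.SFreeFF.Dim
import Mathlib.GroupTheory.GroupAction.Quotient
import Mathlib.Data.Nat.GCD.Basic
import Mathlib.Algebra.Group.End

/-!
Homomorphisms from a stable pair into a tight pair: their dimension is at most `codim - dim`.
-/

set_option autoImplicit false
set_option linter.unusedSectionVars false
set_option linter.style.haveILetI false

namespace CfsgLib.Fusion.SFreeFF

universe u

/-- A group acting freely has order dividing the size of the set. -/
theorem card_dvd_of_free {G X : Type*} [Group G] [MulAction G X] (h : ∀ x : X, MulAction.stabilizer G x = ⊥) :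
    Nat.card G ∣ Nat.card X := by
  rw [Nat.card_congr (MulAction.selfEquivOrbitsQuotientProd h), Nat.card_prod]
  exact dvd_mul_left _ _

theorem dvd_of_pow_sub_one_dvd {a b : ℕ} (h : 2 ^ a - 1 ∣ 2 ^ b - 1) : a ∣ b := by
  have h1 := Nat.pow_sub_one_gcd_pow_sub_one 2 a b
  rw [Nat.gcd_eq_left h] at h1
  have h2 : 2 ^ a = 2 ^ Nat.gcd a b := by
    have := Nat.one_le_two_pow (n := a)
    have := Nat.one_le_two_pow (n := Nat.gcd a b)
    omega
  rw [Nat.pow_right_injective le_rfl h2]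
  exact Nat.gcd_dvd_right a b

variable {V₀ U : Type u} [CommGroup V₀] [CommGroup U]

/-- A stable pair: faithful, of ratio below one, maximal ratio attained only by itself. -/
structure Stable (D : Subgroup (V₀ →* U)) : Prop where
  ne : D ≠ ⊥
  faithful : ann D = ⊥
  lt : dl D < dl (⊤ : Subgroup V₀)
  strict : ∀ E ≤ D, E ≠ ⊥ → E ≠ D → dl E * dl (⊤ : Subgroup V₀) < dl D * cd E

/-- The homomorphisms `ψ` carrying `D` into `P` by composition. -/
def Homs (D : Subgroup (V₀ →* U)) {Y : Type u} [CommGroup Y] (P : Subgroup (Y →* U)) : Subgroup (Y →* V₀) where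
  carrier := {ψ | ∀ z ∈ D, z.comp ψ ∈ P}
  one_mem' := fun z _ => by
    rw [show z.comp (1 : Y →* V₀) = 1 from MonoidHom.ext fun y => map_one z]
    exact one_mem P
  mul_mem' := fun {a b} ha hb z hz => by
    rw [show z.comp (a * b) = z.comp a * z.comp b from MonoidHom.ext fun y => map_mul z (a y) (b y)]
    exact mul_mem (ha z hz) (hb z hz)
  inv_mem' := fun {a} ha z hz => by
    rw [show z.comp a⁻¹ = (z.comp a)⁻¹ from MonoidHom.ext fun y => map_inv z (a y)]
    exact inv_mem (ha z hz)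

variable [Finite V₀] [Finite U] {D : Subgroup (V₀ →* U)}

theorem Stable.cd_eq (hD : Stable D) : cd D = dl (⊤ : Subgroup V₀) := by
  rw [cd, hD.faithful, dl_bot, Nat.sub_zero]

theorem Stable.bound (hD : Stable D) : Bound (dl (⊤ : Subgroup V₀)) (dl D) D := by
  intro E hE
  haveI := finite_hom V₀ U
  by_cases h1 : E = ⊥
  · subst h1; rw [dl_bot, zero_mul]; exact Nat.zero_le _
  by_cases h2 : E = D
  · rw [h2, hD.cd_eq]
  · exact (hD.strict E hE h1 h2).le

/-- A nontrivial element of `Homs` is surjective and carries `D` injectively onto a tight subgroup. -/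
theorem image_of_hom (hV₀ : Exp2 V₀) (hU : Exp2 U) (hD : Stable D) {Y : Type u} [CommGroup Y] [Finite Y]
    (hY : Exp2 Y) {P : Subgroup (Y →* U)} (hP : Bound (dl (⊤ : Subgroup V₀)) (dl D) P) {ψ : Y →* V₀}
    (hψ : ψ ∈ Homs D P) (hne : ψ ≠ 1) :
    Function.Surjective ψ ∧ D.map (pre ψ) ≤ P ∧ dl (D.map (pre ψ)) = dl D ∧
      ann (D.map (pre ψ)) = ψ.ker ∧ cd (D.map (pre ψ)) = dl (⊤ : Subgroup V₀) ∧
      Tight (dl (⊤ : Subgroup V₀)) (dl D) (D.map (pre ψ)) ∧
      ∀ z ∈ D, z.comp ψ = 1 → z = 1 := by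
  haveI := finite_hom Y U
  haveI := finite_hom V₀ U
  set c₀ := dl (⊤ : Subgroup V₀) with hc₀
  set d₀ := dl D with hd₀
  set P₁ := D.map (pre ψ) with hP₁
  set D' := D ⊓ (pre (U := U) ψ).ker with hD'
  have hP₁P : P₁ ≤ P := by rintro _ ⟨z, hz, rfl⟩; exact hψ z hz
  have hann : ann P₁ = ψ.ker := by
    ext y
    constructor
    · intro hy
      rw [MonoidHom.mem_ker, ← Subgroup.mem_bot, ← hD.faithful]
      exact fun z hz => hy _ ⟨z, hz, rfl⟩
    · rintro hy _ ⟨z, hz, rfl⟩
      show z (ψ y) = 1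
      rw [MonoidHom.mem_ker.mp hy, map_one]
  have hdim : dl P₁ + dl D' = d₀ := dl_map_add hU.hom hU.hom (pre ψ) D
  have hcP : cd P₁ = dl ψ.range := by
    have h := dl_map_add hY hV₀ ψ ⊤
    rw [top_inf_eq, ← MonoidHom.range_eq_map] at h
    rw [cd, hann, ← h, Nat.add_sub_cancel]
  have hcD : cd D' + dl ψ.range ≤ c₀ := by
    have h1 : ψ.range ≤ ann D' := by
      rintro _ ⟨y, rfl⟩ z hz
      exact DFunLike.congr_fun (MonoidHom.mem_ker.mp hz.2) y
    have := dl_mono h1
    have := cd_add D'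
    omega
  have b1 := hP P₁ hP₁P
  have hD'bot : D' = ⊥ := by
    by_contra hne'
    by_cases h2 : D' = D
    · apply hne
      refine MonoidHom.ext fun y => ?_
      have : ψ y ∈ ann D := fun z hz => DFunLike.congr_fun
        (MonoidHom.mem_ker.mp ((h2.ge hz).2 : z ∈ (pre (U := U) ψ).ker)) y
      rw [hD.faithful, Subgroup.mem_bot] at this
      exact this
    · have b2 := hD.strict D' inf_le_left hne' h2
      rw [← hc₀, ← hd₀] at b2
      have h5 : d₀ * (cd D' + cd P₁) ≤ d₀ * c₀ := Nat.mul_le_mul_left _ (hcP.symm ▸ hcD)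
      have h6 : dl P₁ * c₀ + dl D' * c₀ < d₀ * cd P₁ + d₀ * cd D' := Nat.add_lt_add_of_le_of_lt b1 b2
      rw [← Nat.add_mul, hdim, ← Nat.mul_add, add_comm (cd P₁)] at h6
      omega
  rw [hD'bot, dl_bot, add_zero] at hdim
  have hc : cd P₁ = c₀ := by
    refine le_antisymm (hcP ▸ dl_mono le_top) ?_
    rw [hdim] at b1
    exact Nat.le_of_mul_le_mul_left b1 (dl_pos hU.hom hD.ne)
  refine ⟨?_, hP₁P, hdim, hann, hc, ?_, fun z hz hz1 => ?_⟩
  · rw [← MonoidHom.range_eq_top]
    exact eq_of_dl_le hV₀ le_top (by rw [← hc₀, ← hc, hcP])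
  · show dl P₁ * c₀ = d₀ * cd P₁
    rw [hdim, hc]
  · have : z ∈ D' := ⟨hz, MonoidHom.mem_ker.mpr hz1⟩
    rwa [hD'bot, Subgroup.mem_bot] at this

/-- The invertible endomorphisms of a stable pair. -/
def endUnits (D : Subgroup (V₀ →* U)) : Subgroup (MulAut V₀) where
  carrier := {α | α.toMonoidHom ∈ Homs D D}
  one_mem' := fun z hz => by
    rwa [show z.comp (MulEquiv.toMonoidHom (1 : MulAut V₀)) = z from MonoidHom.ext fun v => rfl]
  mul_mem' := fun {a b} ha hb z hz => by
    have h := hb _ (ha z hz)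
    rwa [show z.comp (MulEquiv.toMonoidHom (a * b)) = (z.comp a.toMonoidHom).comp b.toMonoidHom from
      MonoidHom.ext fun v => rfl]
  inv_mem' := fun {a} ha z hz => by
    haveI := finite_hom V₀ U
    have hinj : Function.Injective (fun w : D => (⟨(w : V₀ →* U).comp a.toMonoidHom, ha w w.2⟩ : D)) := by
      intro w w' hw
      refine Subtype.ext (MonoidHom.ext fun v => ?_)
      have := DFunLike.congr_fun (congrArg Subtype.val hw) (a.symm v)
      simpa using this
    obtain ⟨w, hw⟩ := (Finite.injective_iff_surjective.mp hinj) ⟨z, hz⟩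
    have hw' : (w : V₀ →* U).comp a.toMonoidHom = z := congrArg Subtype.val hw
    have e : z.comp (MulEquiv.toMonoidHom a⁻¹) = w := by
      rw [← hw']
      refine MonoidHom.ext fun v => ?_
      show (w : V₀ →* U) (a (a⁻¹ v)) = (w : V₀ →* U) v
      rw [show a (a⁻¹ v) = v from a.apply_symm_apply v]
    rw [e]; exact w.2

theorem homs_self_injective (hV₀ : Exp2 V₀) (hU : Exp2 U) (hD : Stable D) {θ : V₀ →* V₀} (hθ : θ ∈ Homs D D)
    (hne : θ ≠ 1) : Function.Bijective θ :=
  Finite.surjective_iff_bijective.mp (image_of_hom hV₀ hU hD hV₀ hD.bound hθ hne).1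

/-- The endomorphisms of a stable pair. -/
theorem dl_end_le (hV₀ : Exp2 V₀) (hU : Exp2 U) (hD : Stable D) :
    dl (Homs D D) + dl D ≤ dl (⊤ : Subgroup V₀) := by
  classical
  haveI := finite_hom V₀ U
  haveI := finite_hom V₀ V₀
  haveI : Finite (MulAut V₀) := Finite.of_injective (fun α : MulAut V₀ => (α : V₀ → V₀)) DFunLike.coe_injective
  set e := dl (Homs D D)
  -- the group of units
  let f : {ψ : Homs D D // ψ ≠ 1} → endUnits D := fun ψ =>
    have hne : (ψ.1 : V₀ →* V₀) ≠ 1 := fun h => ψ.2 (Subtype.ext h)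
    ⟨MulEquiv.ofBijective (ψ.1 : V₀ →* V₀) (homs_self_injective hV₀ hU hD ψ.1.2 hne), by
      show MulEquiv.toMonoidHom _ ∈ Homs D D
      rw [show MulEquiv.toMonoidHom (MulEquiv.ofBijective (ψ.1 : V₀ →* V₀) _) = (ψ.1 : V₀ →* V₀) from
        MonoidHom.ext fun v => rfl]
      exact ψ.1.2⟩
  have htop : (⊤ : Subgroup V₀) ≠ ⊥ := fun h => by
    have := hD.lt
    rw [h, dl_bot] at this
    omega
  have hf : Function.Bijective f := by
    refine ⟨fun a b hab => Subtype.ext (Subtype.ext (MonoidHom.ext fun v => ?_)), fun α => ?_⟩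
    · exact DFunLike.congr_fun (congrArg Subtype.val hab) v
    · refine ⟨⟨⟨(α : MulAut V₀).toMonoidHom, α.2⟩, fun h => htop ?_⟩, Subtype.ext (MulEquiv.ext fun v => rfl)⟩
      refine (Subgroup.eq_bot_iff_forall _).mpr fun v _ => (α : MulAut V₀).injective ?_
      rw [map_one]
      exact DFunLike.congr_fun (congrArg Subtype.val h) v
  have hcard : Nat.card (endUnits D) + 1 = 2 ^ e := by
    rw [← card_eq_pow hV₀.hom, ← Nat.card_eq_of_bijective f hf, ← Finite.card_option]
    exact Nat.card_congr (Equiv.optionSubtypeNe (1 : Homs D D))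
  -- a nontrivial unit has no fixed point
  have hfree : ∀ α : endUnits D, α ≠ 1 → Function.Injective
      ((α : MulAut V₀).toMonoidHom * MonoidHom.id V₀) := by
    intro α hα
    refine (homs_self_injective hV₀ hU hD (mul_mem α.2 fun z hz => by rwa [MonoidHom.comp_id]) fun h => hα ?_).1
    refine Subtype.ext (MulEquiv.ext fun v => ?_)
    have h1 : (α : MulAut V₀) v * v = 1 := DFunLike.congr_fun h v
    exact mul_right_cancel (h1.trans (hV₀ v).symm)
  -- the action on vectors
  letI a1 : MulAction (endUnits D) {v : V₀ // v ≠ 1} :=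
    { smul := fun α v => ⟨(α : MulAut V₀) v, fun h => v.2 ((α : MulAut V₀).injective (h.trans (map_one _).symm))⟩
      one_smul := fun v => rfl
      mul_smul := fun a b v => rfl }
  have h1 : Nat.card (endUnits D) ∣ Nat.card {v : V₀ // v ≠ 1} := by
    refine card_dvd_of_free fun v => (Subgroup.eq_bot_iff_forall _).mpr fun α hα => ?_
    by_contra hne
    refine v.2 (hfree α hne ?_)
    rw [map_one]
    show (α : MulAut V₀) v.1 * v.1 = 1
    rw [show (α : MulAut V₀) v.1 = v.1 from congrArg Subtype.val hα, hV₀]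
  -- the action on homomorphisms
  letI a2 : MulAction (endUnits D) {z : D // z ≠ 1} :=
    { smul := fun α z => ⟨⟨(z.1 : V₀ →* U).comp (α⁻¹ : endUnits D).1.toMonoidHom, (α⁻¹).2 _ z.1.2⟩, fun h => z.2
        (Subtype.ext (MonoidHom.ext fun v => by
          have h' := DFunLike.congr_fun (congrArg Subtype.val h) ((α : MulAut V₀) v)
          rwa [MonoidHom.comp_apply, show (α⁻¹ : endUnits D).1.toMonoidHom ((α : MulAut V₀) v) = v from
            (α : MulAut V₀).symm_apply_apply v] at h'))⟩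
      one_smul := fun z => Subtype.ext (Subtype.ext (MonoidHom.ext fun v => rfl))
      mul_smul := fun a b z => Subtype.ext (Subtype.ext (MonoidHom.ext fun v => rfl)) }
  have h2 : Nat.card (endUnits D) ∣ Nat.card {z : D // z ≠ 1} := by
    refine card_dvd_of_free fun z => (Subgroup.eq_bot_iff_forall _).mpr fun α hα => ?_
    by_contra hne
    refine z.2 (Subtype.ext (MonoidHom.ext fun v => ?_))
    obtain ⟨w, rfl⟩ := (Finite.injective_iff_surjective.mp (hfree α⁻¹ (inv_ne_one.mpr hne))) v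
    have h' := DFunLike.congr_fun (congrArg Subtype.val (congrArg Subtype.val hα)) w
    show (z.1 : V₀ →* U) (((α⁻¹ : endUnits D).1 : MulAut V₀) w * w) = 1
    rw [map_mul]
    exact (congrArg (· * (z.1 : V₀ →* U) w) h').trans (hU _)
  have hne1 : ∀ (X : Type u) [CommGroup X] [Finite X], Nat.card {x : X // x ≠ 1} = Nat.card X - 1 := by
    intro X _ _
    rw [← Nat.card_congr (Equiv.optionSubtypeNe (1 : X)), Finite.card_option, Nat.add_sub_cancel]
  rw [hne1, ← Subgroup.card_top (G := V₀), card_eq_pow hV₀, show Nat.card (endUnits D) = 2 ^ e - 1 by omega] at h1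
  rw [hne1, card_eq_pow hU.hom, show Nat.card (endUnits D) = 2 ^ e - 1 by omega] at h2
  have := hD.lt
  have h3 : e ∣ dl (⊤ : Subgroup V₀) - dl D :=
    Nat.dvd_sub (dvd_of_pow_sub_one_dvd h1) (dvd_of_pow_sub_one_dvd h2)
  have := Nat.le_of_dvd (by omega) h3
  omega

/-- The dimension of `Homs` into a tight pair. -/
theorem dl_homs_le (hV₀ : Exp2 V₀) (hU : Exp2 U) (hD : Stable D) :
    ∀ (Y : Type u) [CommGroup Y] [Finite Y], Exp2 Y → ∀ P : Subgroup (Y →* U),
      Bound (dl (⊤ : Subgroup V₀)) (dl D) P → Tight (dl (⊤ : Subgroup V₀)) (dl D) P →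
      dl (Homs D P) + dl P ≤ cd P := by
  suffices ∀ (n : ℕ) (Y : Type u) [CommGroup Y] [Finite Y], Nat.card Y = n → Exp2 Y →
      ∀ P : Subgroup (Y →* U), Bound (dl (⊤ : Subgroup V₀)) (dl D) P →
      Tight (dl (⊤ : Subgroup V₀)) (dl D) P → dl (Homs D P) + dl P ≤ cd P from
    fun Y _ _ => this _ Y rfl
  intro n
  induction n using Nat.strong_induction_on with
  | _ n ih => ?_
  intro Y _ _ hn hY P hP hT
  haveI := finite_hom Y U
  haveI := finite_hom Y V₀
  set c₀ := dl (⊤ : Subgroup V₀) with hc₀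
  set d₀ := dl D with hd₀
  have hlt : d₀ < c₀ := hD.lt
  by_cases hH : Homs D P = ⊥
  · rw [hH, dl_bot, zero_add]
    have h1 : dl P * c₀ ≤ cd P * c₀ := by
      rw [show dl P * c₀ = d₀ * cd P from hT, mul_comm d₀]
      exact Nat.mul_le_mul_left _ hlt.le
    exact Nat.le_of_mul_le_mul_right h1 (by omega)
  obtain ⟨ψ, hψ, hψ1⟩ : ∃ ψ ∈ Homs D P, ψ ≠ 1 := by
    by_contra hcon
    push Not at hcon
    exact hH ((Subgroup.eq_bot_iff_forall _).mpr hcon)
  obtain ⟨hsurj, hP₁P, hd1, hann, hc1, hT1, hinj⟩ := image_of_hom hV₀ hU hD hY hP hψ hψ1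
  set P₁ := D.map (pre ψ) with hP₁
  set K := ψ.ker with hK
  haveI := finite_hom K U
  haveI := finite_hom K V₀
  have hK2 : Exp2 K := hY.subgroup K
  have hKY : dl K + c₀ = dl (⊤ : Subgroup Y) := by
    have := cd_add P₁
    rw [hann] at this
    omega
  set r := pre (U := U) K.subtype with hr
  -- elements killing `K`
  have hZ : P ⊓ r.ker = P₁ := by
    refine (eq_of_dl_le hU.hom (le_inf hP₁P ?_) ?_).symm
    · rintro _ ⟨z, hz, rfl⟩
      refine MonoidHom.mem_ker.mpr (MonoidHom.ext fun k => ?_)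
      show z (ψ (k : Y)) = 1
      rw [MonoidHom.mem_ker.mp k.2, map_one]
    · have h1 := hP (P ⊓ r.ker) inf_le_left
      have h2 : cd (P ⊓ r.ker) ≤ c₀ := by
        have h3 : K ≤ ann (P ⊓ r.ker) := fun y hy z hz =>
          DFunLike.congr_fun (MonoidHom.mem_ker.mp hz.2) ⟨y, hy⟩
        have := dl_mono h3
        have := cd_add (P ⊓ r.ker)
        omega
      have h4 : dl (P ⊓ r.ker) * c₀ ≤ d₀ * c₀ := h1.trans (Nat.mul_le_mul_left _ h2)
      rw [hd1]
      exact Nat.le_of_mul_le_mul_right h4 (by omega)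
  -- subgroups of the restriction
  have hpre : ∀ E : Subgroup (K →* U), E ≤ P.map r →
      dl (P ⊓ E.comap r) = dl E + d₀ ∧ cd (P ⊓ E.comap r) = c₀ + cd E := by
    intro E hE
    have hmap : (P ⊓ E.comap r).map r = E := by
      refine le_antisymm (by rintro _ ⟨z, hz, rfl⟩; exact hz.2) fun x hx => ?_
      obtain ⟨z, hz, rfl⟩ := hE hx
      exact ⟨z, ⟨hz, hx⟩, rfl⟩
    have hker : (P ⊓ E.comap r) ⊓ r.ker = P₁ := by
      rw [← hZ]
      refine le_antisymm (inf_le_inf_right _ inf_le_left) fun z hz => ⟨⟨hz.1, ?_⟩, hz.2⟩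
      show r z ∈ E
      rw [MonoidHom.mem_ker.mp hz.2]; exact one_mem E
    refine ⟨?_, ?_⟩
    · have := dl_map_add hU.hom hU.hom r (P ⊓ E.comap r)
      rw [hmap, hker, hd1] at this
      omega
    · have he : ann (P ⊓ E.comap r) = (ann E).map K.subtype := by
        ext y
        constructor
        · intro hy
          have hyK : y ∈ K := by
            rw [← hann]
            exact fun z hz => hy z (hker.ge hz).1
          refine ⟨⟨y, hyK⟩, fun x hx => ?_, rfl⟩
          obtain ⟨z, hz, rfl⟩ := hE hx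
          exact hy z ⟨hz, hx⟩
        · rintro ⟨k, hk, rfl⟩ z hz
          exact hk (r z) hz.2
      rw [cd, cd, he, dl_map_subtype, dl_top_subgroup, ← hKY]
      have : dl (ann E) ≤ dl K := dl_top_subgroup K ▸ dl_mono le_top
      omega
  have hP' : Bound c₀ d₀ (P.map r) := by
    intro E hE
    obtain ⟨h1, h2⟩ := hpre E hE
    have h3 := hP (P ⊓ E.comap r) inf_le_left
    rw [h1, h2, Nat.add_mul, Nat.mul_add] at h3
    omega
  have htop : P ⊓ (P.map r).comap r = P := inf_eq_left.mpr (Subgroup.le_comap_map _ _)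
  obtain ⟨hdP, hcP⟩ := hpre _ le_rfl
  rw [htop] at hdP hcP
  have hT' : Tight c₀ d₀ (P.map r) := by
    have h3 : dl P * c₀ = d₀ * cd P := hT
    rw [hdP, hcP, Nat.add_mul, Nat.mul_add] at h3
    show dl (P.map r) * c₀ = d₀ * cd (P.map r)
    omega
  -- the smaller module
  have hlt' : Nat.card K < n := by
    rw [← hn, card_eq_pow hY K, ← Subgroup.card_top (G := Y), card_eq_pow hY]
    exact Nat.pow_lt_pow_right one_lt_two (by omega)
  have hih := ih _ hlt' K rfl hK2 (P.map r) hP' hT'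
  -- restriction of homomorphisms
  set R := pre (U := V₀) K.subtype with hR
  have hR1 : (Homs D P).map R ≤ Homs D (P.map r) := by
    rintro _ ⟨χ, hχ, rfl⟩ z hz
    exact ⟨z.comp χ, hχ z hz, rfl⟩
  have hR2 : Homs D P ⊓ R.ker ≤ (Homs D D).map (pre ψ) := by
    rintro χ ⟨hχ, hχR⟩
    have hker : ψ.ker ≤ χ.ker := fun y hy => by
      rw [MonoidHom.mem_ker]
      exact DFunLike.congr_fun (MonoidHom.mem_ker.mp hχR) (⟨y, hy⟩ : K)
    let θ : V₀ →* V₀ := ψ.liftOfSurjective hsurj ⟨χ, hker⟩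
    have hθ : θ.comp ψ = χ := ψ.liftOfRightInverse_comp _ _ ⟨χ, hker⟩
    refine ⟨θ, fun z hz => ?_, hθ⟩
    have h1 : z.comp χ ∈ P ⊓ r.ker := ⟨hχ z hz, MonoidHom.mem_ker.mpr (MonoidHom.ext fun k => by
      show z (χ (k : Y)) = 1
      rw [MonoidHom.mem_ker.mp (hker k.2), map_one])⟩
    rw [hZ] at h1
    obtain ⟨z', hz', he⟩ := h1
    have : z.comp θ = z' := by
      refine MonoidHom.ext fun v => ?_
      obtain ⟨y, rfl⟩ := hsurj v
      rw [MonoidHom.comp_apply, show θ (ψ y) = χ y from DFunLike.congr_fun hθ y]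
      exact (DFunLike.congr_fun he y).symm
    rw [this]; exact hz'
  haveI := finite_hom V₀ V₀
  have hsum := dl_map_add hV₀.hom hV₀.hom R (Homs D P)
  have hk := dl_mono hR2
  have hk2 := dl_map_add hV₀.hom hV₀.hom (pre (U := V₀) ψ) (Homs D D)
  have hk3 := dl_mono hR1
  have hend := dl_end_le hV₀ hU hD
  omega

end CfsgLib.Fusion.SFreeFF
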