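import Cfsg.Agent.Lib.Fusion.SFreeFF.Hom
import Cfsg.Agent.Lib.Fusion.CentralOffender
import Mathlib.Data.ZMod.Basic
import Mathlib.Data.Rat.Init
import Mathlib.Algebra.Order.Field.Rat
import Mathlib.Tactic.Linarith
import Mathlib.Tactic.FieldSimp

/-!
A module built from an invariant pair with positive `codim - dim`: the codimension of the fixed points of `A` is at
most the codimension of a fixed subspace minus the dimension of the homomorphisms killing it.
-/

set_option autoImplicit false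
set_option linter.unusedSectionVars false
set_option linter.style.haveILetI false

namespace CfsgLib.Fusion.SFreeFF

open CfsgLib.Fusion.CentralOffender (fix restr apply_inv apply_inv' apply_mul apply_one Quad quad_restr)

universe u

/-- The group of order two. -/
abbrev Two : Type u := Multiplicative (ULift.{u} (ZMod 2))

theorem exp2_two : Exp2 Two.{u} := by
  intro v
  apply Multiplicative.toAdd.injective
  rcases v with ⟨x⟩
  exact congrArg ULift.up (CharTwo.add_self_eq_zero x)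

theorem dl_two : dl (⊤ : Subgroup Two.{u}) = 1 := by
  rw [dl_top_eq, Nat.card_congr Multiplicative.toAdd, Nat.card_congr Equiv.ulift, Nat.card_zmod]
  exact Nat.log_pow one_lt_two 1

/-- Homomorphisms to the group of order two separate points. -/
theorem exists_hom_ne_one {P : Type u} [CommGroup P] [Finite P] (hP : Exp2 P) {x : P} (hx : x ≠ 1) :
    ∃ f : P →* Two.{u}, f x ≠ 1 := by
  classical
  obtain ⟨M, hxM, hmax⟩ := Set.exists_max_image {M : Subgroup P | x ∉ M} (fun M => Nat.card M)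
    (Set.toFinite _) ⟨⊥, fun h => hx (Subgroup.mem_bot.mp h)⟩
  have hcov : ∀ y, y ∉ M → y * x ∈ M := by
    intro y hy
    have hx' : x ∈ M ⊔ Subgroup.zpowers y := by
      by_contra h
      have h1 := Subgroup.eq_of_le_of_card_ge (le_sup_left : M ≤ M ⊔ Subgroup.zpowers y) (hmax _ h)
      exact hy (h1.ge (Subgroup.mem_sup_right (Subgroup.mem_zpowers y)))
    obtain ⟨m, hm, _, ⟨k, rfl⟩, hmk⟩ := Subgroup.mem_sup.mp hx'
    simp only at hmk
    rcases Int.even_or_odd k with ⟨j, rfl⟩ | ⟨j, rfl⟩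
    · refine absurd ?_ hxM
      rw [← hmk, show y ^ (j + j) = 1 by rw [zpow_add, ← mul_zpow, hP, one_zpow], mul_one]
      exact hm
    · have : y ^ (2 * j + 1) = y := by
        rw [zpow_add, zpow_mul, zpow_two, hP, one_zpow, one_mul, zpow_one]
      simp only [this] at hmk
      rw [← hmk, mul_left_comm, hP, mul_one]
      exact hm
  let t : Two.{u} := Multiplicative.ofAdd (ULift.up 1)
  have ht : t * t = 1 := exp2_two t
  refine ⟨MonoidHom.mk' (fun y => if y ∈ M then 1 else t) fun a b => ?_, ?_⟩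
  · by_cases ha : a ∈ M <;> by_cases hb : b ∈ M
    · rw [if_pos ha, if_pos hb, if_pos (mul_mem ha hb), one_mul]
    · rw [if_pos ha, if_neg hb, if_neg (fun h => hb ((Subgroup.mul_mem_cancel_left M ha).mp h)), one_mul]
    · rw [if_neg ha, if_pos hb, if_neg (fun h => ha ((Subgroup.mul_mem_cancel_right M hb).mp h)), mul_one]
    · have hab : a * b ∈ M := by
        have := mul_mem (hcov a ha) (hcov b hb)
        rwa [mul_mul_mul_comm, hP, mul_one] at this
      rw [if_neg ha, if_neg hb, if_pos hab, ht]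
  · show (if x ∈ M then (1 : Two.{u}) else t) ≠ 1
    rw [if_neg hxM]
    intro h
    exact absurd (congrArg (fun z => (Multiplicative.toAdd z).down) h) (show (1 : ZMod 2) ≠ 0 by decide)

/-- At most as many homomorphisms to the group of order two as elements. -/
theorem dl_dual_le : ∀ (P : Type u) [CommGroup P] [Finite P], Exp2 P →
    dl (⊤ : Subgroup (P →* Two.{u})) ≤ dl (⊤ : Subgroup P) := by
  suffices ∀ (n : ℕ) (P : Type u) [CommGroup P] [Finite P], Nat.card P = n → Exp2 P →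
      dl (⊤ : Subgroup (P →* Two.{u})) ≤ dl (⊤ : Subgroup P) from fun P _ _ => this _ P rfl
  intro n
  induction n using Nat.strong_induction_on with
  | _ n ih => ?_
  intro P _ _ hn hP
  haveI := finite_hom P Two.{u}
  by_cases hb : (⊤ : Subgroup P) = ⊥
  · rw [show (⊤ : Subgroup (P →* Two.{u})) = ⊥ from (Subgroup.eq_bot_iff_forall _).mpr fun f _ =>
      MonoidHom.ext fun y => by rw [(Subgroup.eq_bot_iff_forall _).mp hb y trivial, map_one, map_one], dl_bot]
    exact Nat.zero_le _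
  obtain ⟨x, -, hx⟩ : ∃ x ∈ (⊤ : Subgroup P), x ≠ 1 := by
    by_contra h
    push Not at h
    exact hb ((Subgroup.eq_bot_iff_forall _).mpr h)
  set X := Subgroup.zpowers x
  have hq := dl_map_add hP (hP.quotient X) (QuotientGroup.mk' X) ⊤
  rw [Subgroup.map_top_of_surjective _ (QuotientGroup.mk'_surjective X), top_inf_eq, QuotientGroup.ker_mk'] at hq
  have hX : 0 < dl X := dl_pos hP fun h => hx (Subgroup.zpowers_eq_bot.mp h)
  have hlt : Nat.card (P ⧸ X) < n := by
    rw [← hn, ← Subgroup.card_top (G := P), ← Subgroup.card_top (G := P ⧸ X), card_eq_pow hP,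
      card_eq_pow (hP.quotient X)]
    exact Nat.pow_lt_pow_right one_lt_two (by omega)
  have h1 := ih _ hlt (P ⧸ X) rfl (hP.quotient X)
  let ev : (P →* Two.{u}) →* Two.{u} := MonoidHom.mk' (fun f => f x) fun f g => rfl
  have h2 := dl_map_add exp2_two.hom exp2_two ev ⊤
  rw [top_inf_eq] at h2
  have h3 : dl ((⊤ : Subgroup (P →* Two.{u})).map ev) ≤ 1 := dl_two.{u} ▸ dl_mono le_top
  haveI := finite_hom (P ⧸ X) Two.{u}
  have h4 : ev.ker ≤ (⊤ : Subgroup ((P ⧸ X) →* Two.{u})).map (pre (QuotientGroup.mk' X)) := by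
    intro f hf
    have hker : X ≤ f.ker := Subgroup.zpowers_le.mpr (MonoidHom.mem_ker.mpr hf)
    exact ⟨QuotientGroup.lift X f hker, trivial, MonoidHom.ext fun y => rfl⟩
  have h5 := dl_map_add exp2_two.hom exp2_two.hom (pre (U := Two.{u}) (QuotientGroup.mk' X)) ⊤
  have h6 := dl_mono h4
  omega

/-- The action on homomorphisms by precomposition with inverses. -/
def preAct {G Y V : Type u} [Group G] [CommGroup Y] [CommGroup V] (ψ : G →* MulAut Y) :
    G →* MulAut (Y →* V) where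
  toFun g :=
    { toFun := fun f => f.comp (ψ g⁻¹).toMonoidHom
      invFun := fun f => f.comp (ψ g).toMonoidHom
      left_inv := fun f => MonoidHom.ext fun y => congrArg f (apply_inv ψ g y)
      right_inv := fun f => MonoidHom.ext fun y => congrArg f (apply_inv' ψ g y)
      map_mul' := fun f f' => rfl }
  map_one' := MulEquiv.ext fun f => MonoidHom.ext fun y => congrArg f (by rw [inv_one]; exact apply_one ψ y)
  map_mul' g h := MulEquiv.ext fun f => MonoidHom.ext fun y => congrArg f (by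
    show ψ (g * h)⁻¹ y = ψ h⁻¹ (ψ g⁻¹ y)
    rw [← apply_mul, mul_inv_rev])

theorem preAct_apply {G Y V : Type u} [Group G] [CommGroup Y] [CommGroup V] (ψ : G →* MulAut Y) (g : G)
    (f : Y →* V) (y : Y) : preAct (V := V) ψ g f y = f (ψ g⁻¹ y) := rfl

/-- The action on a product. -/
def prodAct {G W W' : Type u} [Group G] [CommGroup W] [CommGroup W'] (a : G →* MulAut W) (b : G →* MulAut W') :
    G →* MulAut (W × W') where
  toFun g := MulEquiv.prodCongr (a g) (b g)
  map_one' := MulEquiv.ext fun x => Prod.ext (apply_one a x.1) (apply_one b x.2)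
  map_mul' g h := MulEquiv.ext fun x => Prod.ext (apply_mul a g h x.1) (apply_mul b g h x.2)

theorem quad_preAct {G Y V : Type u} [Group G] [CommGroup Y] [CommGroup V] {ψ : G →* MulAut Y} {A : Subgroup G}
    (hq : Quad ψ A) : Quad (preAct (V := V) ψ) A := by
  intro e he f hf h
  refine MonoidHom.ext fun y => ?_
  show h (ψ f⁻¹ (ψ e⁻¹ y)) * (h (ψ e⁻¹ y))⁻¹ = h (ψ f⁻¹ y) * (h y)⁻¹
  have h1 : ψ f⁻¹ (ψ e⁻¹ y * y⁻¹) = ψ e⁻¹ y * y⁻¹ := hq _ (A.inv_mem hf) _ (A.inv_mem he) y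
  obtain ⟨d, hd, hd'⟩ : ∃ d, ψ e⁻¹ y = d * y ∧ ψ f⁻¹ d = d := ⟨_, (inv_mul_cancel_right _ _).symm, h1⟩
  rw [hd, map_mul (ψ f⁻¹), hd', map_mul h, map_mul h, mul_inv, mul_mul_mul_comm, mul_inv_cancel, one_mul]

variable {G : Type u} [Group G] [Finite G] {U : Type u} [CommGroup U] [Finite U]

theorem exists_module (hU : Exp2 U) : ∀ (Y : Type u) [CommGroup Y] [Finite Y], Exp2 Y →
    ∀ (ψ : G →* MulAut Y) (A : Subgroup G) (M : Subgroup (Y →* U)),
    (∀ g, ∀ z ∈ M, z.comp (ψ g).toMonoidHom ∈ M) → (∀ E ≤ M, E ≠ ⊥ → dl E < cd E) →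
    ∀ C : Subgroup Y, C ≤ fix ψ A → ∀ E ≤ M, C ≤ ann E →
    ∃ (W : Type u) (_ : CommGroup W) (_ : Finite W) (χ : G →* MulAut W), Exp2 W ∧
      dl (⊤ : Subgroup W) + dl E + dl C ≤ dl (⊤ : Subgroup Y) + dl (fix χ A) ∧
      (∀ g, Odd (orderOf g) → χ g = 1 → ψ g = 1) ∧ (Quad ψ A → Quad χ A) := by
  suffices ∀ (n : ℕ) (Y : Type u) [CommGroup Y] [Finite Y], Nat.card Y = n → Exp2 Y →
    ∀ (ψ : G →* MulAut Y) (A : Subgroup G) (M : Subgroup (Y →* U)),
    (∀ g, ∀ z ∈ M, z.comp (ψ g).toMonoidHom ∈ M) → (∀ E ≤ M, E ≠ ⊥ → dl E < cd E) →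
    ∀ C : Subgroup Y, C ≤ fix ψ A → ∀ E ≤ M, C ≤ ann E →
    ∃ (W : Type u) (_ : CommGroup W) (_ : Finite W) (χ : G →* MulAut W), Exp2 W ∧
      dl (⊤ : Subgroup W) + dl E + dl C ≤ dl (⊤ : Subgroup Y) + dl (fix χ A) ∧
      (∀ g, Odd (orderOf g) → χ g = 1 → ψ g = 1) ∧ (Quad ψ A → Quad χ A) from fun Y _ _ => this _ Y rfl
  intro n
  induction n using Nat.strong_induction_on with
  | _ n ih => ?_
  intro Y _ _ hn hY ψ A M hinv hpos C hC E hEM hCE
  haveI := finite_hom Y U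
  by_cases hM : M = ⊥
  · refine ⟨Y, inferInstance, inferInstance, ψ, hY, ?_, fun g _ h => h, id⟩
    rw [show E = ⊥ from le_bot_iff.mp (hM ▸ hEM), dl_bot, add_zero]
    exact Nat.add_le_add_left (dl_mono hC) _
  -- a member of largest ratio, of least dimension
  obtain ⟨E₁, ⟨hE₁M, hE₁ne⟩, hmax⟩ := Set.exists_max_image {E : Subgroup (Y →* U) | E ≤ M ∧ E ≠ ⊥}
    (fun E => (dl E : ℚ) / cd E) (Set.toFinite _) ⟨M, le_rfl, hM⟩
  have hmax' : ∀ X ≤ M, dl X * cd E₁ ≤ dl E₁ * cd X := by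
    intro X hX
    by_cases hX0 : X = ⊥
    · subst hX0; rw [dl_bot, zero_mul]; exact Nat.zero_le _
    · have h := hmax X ⟨hX, hX0⟩
      have p1 : (0 : ℚ) < cd X := by exact_mod_cast (Nat.zero_le _).trans_lt (hpos X hX hX0)
      have p2 : (0 : ℚ) < cd E₁ := by exact_mod_cast (Nat.zero_le _).trans_lt (hpos E₁ hE₁M hE₁ne)
      rw [div_le_div_iff₀ p1 p2] at h
      exact_mod_cast h
  obtain ⟨D₀, ⟨hD₀M, hD₀ne, hD₀t⟩, hmin⟩ := Set.exists_min_image
    {X : Subgroup (Y →* U) | X ≤ M ∧ X ≠ ⊥ ∧ dl X * cd E₁ = dl E₁ * cd X} (fun X => dl X)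
    (Set.toFinite _) ⟨E₁, hE₁M, hE₁ne, rfl⟩
  set c₀ := cd D₀ with hc₀
  set d₀ := dl D₀ with hd₀
  have hd₀0 : 0 < d₀ := dl_pos hU.hom hD₀ne
  have hlt₀ : d₀ < c₀ := hpos D₀ hD₀M hD₀ne
  have hd₁ : 0 < dl E₁ := dl_pos hU.hom hE₁ne
  have hbound : Bound c₀ d₀ M := by
    intro X hX
    refine Nat.le_of_mul_le_mul_right ?_ hd₁
    calc dl X * c₀ * dl E₁ = dl X * (dl E₁ * c₀) := by rw [mul_assoc, mul_comm c₀]
      _ = dl X * cd E₁ * d₀ := by rw [← hD₀t, mul_comm d₀, mul_assoc]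
      _ ≤ dl E₁ * cd X * d₀ := Nat.mul_le_mul_right _ (hmax' X hX)
      _ = d₀ * cd X * dl E₁ := by rw [mul_comm, mul_comm (dl E₁), mul_assoc]
  have hsmall : ∀ X ≤ M, X ≠ ⊥ → dl X < d₀ → dl X * c₀ < d₀ * cd X := by
    intro X hX hX0 hlt
    refine lt_of_le_of_ne (hbound X hX) fun he => absurd (hmin X ⟨hX, hX0, ?_⟩) (not_le.mpr hlt)
    refine Nat.eq_of_mul_eq_mul_right (show 0 < c₀ by omega) ?_
    calc dl X * cd E₁ * c₀ = dl X * c₀ * cd E₁ := mul_right_comm _ _ _
      _ = d₀ * cd X * cd E₁ := by rw [he]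
      _ = d₀ * cd E₁ * cd X := mul_right_comm _ _ _
      _ = dl E₁ * c₀ * cd X := by rw [hD₀t]
      _ = dl E₁ * cd X * c₀ := mul_right_comm _ _ _
  -- the stable pair
  set q := QuotientGroup.mk' (ann D₀) with hq
  have hqs : Function.Surjective q := QuotientGroup.mk'_surjective _
  have hV₀ : Exp2 (Y ⧸ ann D₀) := hY.quotient _
  haveI := finite_hom (Y ⧸ ann D₀) U
  set D := D₀.comap (pre q) with hD
  have hpreq : Function.Injective (pre (U := U) q) := fun a b hab => MonoidHom.ext fun v => by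
    obtain ⟨y, rfl⟩ := hqs v
    exact DFunLike.congr_fun hab y
  have hker : (pre (U := U) q).ker = ⊥ := (MonoidHom.ker_eq_bot_iff _).mpr hpreq
  have hDmap : D.map (pre q) = D₀ := by
    refine le_antisymm (Subgroup.map_comap_le _ _) fun z hz => ?_
    refine ⟨QuotientGroup.lift (ann D₀) z (fun y hy => MonoidHom.mem_ker.mpr (hy z hz)), ?_,
      MonoidHom.ext fun y => rfl⟩
    exact hz
  have hdlmap : ∀ X : Subgroup ((Y ⧸ ann D₀) →* U), dl (X.map (pre q)) = dl X := by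
    intro X
    have := dl_map_add hU.hom hU.hom (pre (U := U) q) X
    rw [hker, inf_bot_eq, dl_bot] at this
    omega
  have hcdmap : ∀ X : Subgroup ((Y ⧸ ann D₀) →* U), cd (X.map (pre q)) = cd X := by
    intro X
    have he : ann (X.map (pre q)) = (ann X).comap q := by
      ext y
      exact ⟨fun hy z hz => hy _ ⟨z, hz, rfl⟩, by rintro hy _ ⟨z, hz, rfl⟩; exact hy z hz⟩
    have h1 := dl_map_add hY hV₀ q ((ann X).comap q)
    rw [Subgroup.map_comap_eq_self_of_surjective hqs, QuotientGroup.ker_mk',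
      inf_eq_right.mpr (show ann D₀ ≤ (ann X).comap q from fun y hy => by
        show q y ∈ ann X
        rw [show q y = 1 from (QuotientGroup.eq_one_iff y).mpr hy]; exact one_mem _)] at h1
    have h2 := dl_map_add hY hV₀ q ⊤
    rw [Subgroup.map_top_of_surjective _ hqs, top_inf_eq, QuotientGroup.ker_mk'] at h2
    rw [cd, cd, he]
    omega
  have hdV : dl (⊤ : Subgroup (Y ⧸ ann D₀)) = c₀ := by
    have h2 := dl_map_add hY hV₀ q ⊤
    rw [Subgroup.map_top_of_surjective _ hqs, top_inf_eq, QuotientGroup.ker_mk'] at h2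
    have := cd_add D₀
    omega
  have hdD : dl D = d₀ := by rw [← hdlmap D, hDmap]
  have hS : Stable D := by
    refine ⟨fun h => hD₀ne ?_, ?_, ?_, fun X hX hX0 hXD => ?_⟩
    · rw [← hDmap, h, Subgroup.map_bot]
    · refine (Subgroup.eq_bot_iff_forall _).mpr fun v hv => ?_
      obtain ⟨y, rfl⟩ := hqs v
      refine (QuotientGroup.eq_one_iff y).mpr fun z hz => ?_
      obtain ⟨z', hz', rfl⟩ := hDmap.ge hz
      exact hv z' hz'
    · rw [hdD, hdV]; exact hlt₀
    · rw [hdD, hdV, ← hdlmap X, ← hcdmap X]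
      refine hsmall _ (((Subgroup.map_mono hX).trans hDmap.le).trans hD₀M)
        (fun h => hX0 ((Subgroup.map_eq_bot_iff_of_injective _ hpreq).mp h)) ?_
      rw [hdlmap, ← hdD]
      exact lt_of_not_ge fun h => hXD (eq_of_dl_le hU.hom hX h)
  -- the polystable part
  set τ : G → Subgroup (Y →* U) := fun g => D₀.map (pre (ψ g).toMonoidHom) with hτ
  have hτM : ∀ g, τ g ≤ M := by rintro g _ ⟨z, hz, rfl⟩; exact hinv g z (hD₀M hz)
  have hτt : ∀ g, Tight c₀ d₀ (τ g) := by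
    intro g
    have h1 : dl (τ g) = d₀ := by
      rw [hτ, dl, Subgroup.card_map_of_injective (fun a b hab => MonoidHom.ext fun y => by
        simpa using DFunLike.congr_fun hab ((ψ g).symm y))]
      rfl
    have h2 : cd (τ g) = c₀ := by
      have he : ann (τ g) = (ann D₀).map (ψ g).symm.toMonoidHom := by
        ext y
        refine ⟨fun hy => ⟨ψ g y, fun z hz => hy _ ⟨z, hz, rfl⟩, (ψ g).symm_apply_apply y⟩, ?_⟩
        rintro ⟨w, hw, rfl⟩ _ ⟨z, hz, rfl⟩
        show z (ψ g ((ψ g).symm w)) = 1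
        rw [(ψ g).apply_symm_apply]
        exact hw z hz
      rw [hc₀, cd, cd, he, dl, dl, Subgroup.card_map_of_injective (ψ g).symm.injective]
      rfl
    show dl (τ g) * c₀ = d₀ * cd (τ g)
    rw [h1, h2]
  set S₀ := ⨆ g, τ g with hS₀
  have hS₀M : S₀ ≤ M := iSup_le hτM
  have hS₀t : Tight c₀ d₀ S₀ := tight_iSup hY hU hbound τ hτM hτt
  have hS₀inv : ∀ g, ∀ z ∈ S₀, z.comp (ψ g).toMonoidHom ∈ S₀ := by
    intro g
    have : S₀.map (pre (ψ g).toMonoidHom) ≤ S₀ := by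
      rw [hS₀, Subgroup.map_iSup]
      refine iSup_le fun h => le_trans ?_ (le_iSup τ (h * g))
      rintro _ ⟨_, ⟨z, hz, rfl⟩, rfl⟩
      exact ⟨z, hz, MonoidHom.ext fun y => congrArg z (apply_mul ψ h g y)⟩
    exact fun z hz => this ⟨z, hz, rfl⟩
  have hD₀S : D₀ ≤ S₀ := le_trans (fun z hz => Subgroup.mem_map.mpr ⟨z, hz, MonoidHom.ext fun y => congrArg z (apply_one ψ y)⟩)
    (le_iSup τ 1)
  set K := ann S₀ with hK
  have hKinv : ∀ g : G, ∀ y ∈ K, ψ g y ∈ K := fun g y hy z hz => hy _ (hS₀inv g z hz)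
  haveI := finite_hom K U
  set r := pre (U := U) K.subtype with hr
  -- elements killing `K`
  have hZ : M ⊓ r.ker = S₀ := by
    refine (eq_of_dl_le hU.hom (le_inf hS₀M fun z hz => ?_) ?_).symm
    · exact MonoidHom.mem_ker.mpr (MonoidHom.ext fun k => k.2 z hz)
    · have h1 := hbound (M ⊓ r.ker) inf_le_left
      have h3 : K ≤ ann (M ⊓ r.ker) := fun y hy z hz =>
        DFunLike.congr_fun (MonoidHom.mem_ker.mp hz.2) ⟨y, hy⟩
      have h2 : cd (M ⊓ r.ker) ≤ cd S₀ := Nat.sub_le_sub_left (dl_mono h3) _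
      refine Nat.le_of_mul_le_mul_right (h1.trans ((Nat.mul_le_mul_left _ h2).trans ?_)) (show 0 < c₀ by omega)
      exact le_of_eq hS₀t.symm
  have hcS : 0 < cd S₀ := (Nat.zero_le _).trans_lt (hpos S₀ hS₀M fun h => hD₀ne (le_bot_iff.mp (h ▸ hD₀S)))
  have hKY : dl K + cd S₀ = dl (⊤ : Subgroup Y) := by rw [add_comm]; exact cd_add S₀
  have hlt : Nat.card K < n := by
    rw [← hn, card_eq_pow hY K, ← Subgroup.card_top (G := Y), card_eq_pow hY]
    exact Nat.pow_lt_pow_right one_lt_two (by omega)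
  have hinv' : ∀ g, ∀ z ∈ M.map r, z.comp (restr ψ K hKinv g).toMonoidHom ∈ M.map r := by
    rintro g _ ⟨z, hz, rfl⟩
    exact ⟨_, hinv g z hz, rfl⟩
  have hpos' : ∀ X ≤ M.map r, X ≠ ⊥ → dl X < cd X := by
    intro X hX hX0
    set X' := M ⊓ X.comap r
    have hmap : X'.map r = X := by
      refine le_antisymm (by rintro _ ⟨z, hz, rfl⟩; exact hz.2) fun x hx => ?_
      obtain ⟨z, hz, rfl⟩ := hX hx
      exact ⟨z, ⟨hz, hx⟩, rfl⟩
    have hker' : X' ⊓ r.ker = S₀ := by
      rw [← hZ]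
      refine le_antisymm (inf_le_inf_right _ inf_le_left) fun z hz => ⟨⟨hz.1, ?_⟩, hz.2⟩
      show r z ∈ X
      rw [MonoidHom.mem_ker.mp hz.2]; exact one_mem X
    have h1 := dl_map_add hU.hom hU.hom r X'
    rw [hmap, hker'] at h1
    have he : ann X' = (ann X).map K.subtype := by
      ext y
      constructor
      · intro hy
        refine ⟨⟨y, fun z hz => hy z (hker'.ge hz).1⟩, fun x hx => ?_, rfl⟩
        obtain ⟨z, hz, rfl⟩ := hX hx
        exact hy z ⟨hz, hx⟩
      · rintro ⟨k, hk, rfl⟩ z hz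
        exact hk (r z) hz.2
    have h2 : cd X' = cd S₀ + cd X := by
      show dl (⊤ : Subgroup Y) - dl (ann X') = cd S₀ + (dl (⊤ : Subgroup K) - dl (ann X))
      rw [he, dl_map_subtype, dl_top_subgroup]
      have : dl (ann X) ≤ dl K := dl_top_subgroup K ▸ dl_mono le_top
      omega
    have h3 := hbound X' inf_le_left
    have h4 : dl S₀ * c₀ = d₀ * cd S₀ := hS₀t
    rw [← h1, h2, Nat.add_mul, Nat.mul_add, h4] at h3
    have h5 : 0 < dl X := dl_pos hU.hom hX0
    refine Nat.lt_of_mul_lt_mul_right (a := c₀) (lt_of_le_of_lt (b := d₀ * cd X) (by omega) ?_)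
    rw [mul_comm (cd X)]
    refine Nat.mul_lt_mul_of_pos_right hlt₀ ?_
    by_contra hc
    have : cd X = 0 := by omega
    rw [this, mul_zero] at h3
    have : 0 < dl X * c₀ := Nat.mul_pos h5 (by omega)
    omega
  obtain ⟨W', iW, fW, χ', hW', hb', hodd', hquad'⟩ := ih _ hlt K rfl (hY.subgroup K) (restr ψ K hKinv) A (M.map r)
    hinv' hpos' (C.comap K.subtype) (fun k hk a ha => Subtype.ext (hC hk a ha)) (E.map r) (Subgroup.map_mono hEM)
    (by rintro k hk _ ⟨z, hz, rfl⟩; exact hCE hk z hz)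
  -- the homomorphisms from the stable pair
  haveI := finite_hom Y (Y ⧸ ann D₀)
  set H := Homs D S₀ with hH
  have hHinv : ∀ g : G, ∀ f ∈ H, preAct ψ g f ∈ H := fun g f hf z hz => hS₀inv g⁻¹ _ (hf z hz)
  set χH := restr (preAct (V := Y ⧸ ann D₀) ψ) H hHinv with hχH
  set GC := H ⊓ (pre (U := Y ⧸ ann D₀) (C ⊔ K).subtype).ker with hGC
  set κ : GC → Subgroup (Y →* U) := fun f => D.map (pre (f : Y →* Y ⧸ ann D₀)) with hκ
  have hκS : ∀ f, κ f ≤ S₀ := by rintro f _ ⟨z, hz, rfl⟩; exact f.2.1 z hz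
  have hbS : Bound (dl (⊤ : Subgroup (Y ⧸ ann D₀))) (dl D) S₀ := by
    rw [hdV, hdD]; exact fun X hX => hbound X (hX.trans hS₀M)
  have hκt : ∀ f, Tight c₀ d₀ (κ f) := by
    intro f
    by_cases hf : (f : Y →* Y ⧸ ann D₀) = 1
    · have : κ f = ⊥ := (Subgroup.eq_bot_iff_forall _).mpr (by
        rintro _ ⟨z, -, rfl⟩
        refine MonoidHom.ext fun y => ?_
        show z ((f : Y →* Y ⧸ ann D₀) y) = 1
        rw [hf]; exact map_one z)
      rw [this]; exact tight_bot _ _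
    · have := (image_of_hom hV₀ hU hS hY hbS f.2.1 hf).2.2.2.2.2.1
      rwa [hdV, hdD] at this
  set EC := ⨆ f, κ f with hEC
  have hECS : EC ≤ S₀ := iSup_le hκS
  have hECt : Tight c₀ d₀ EC := tight_iSup hY hU hbound κ (fun f => (hκS f).trans hS₀M) hκt
  have hGCle : GC ≤ Homs D EC := fun f hf z hz => le_iSup κ ⟨f, hf⟩ ⟨z, hz, rfl⟩
  have hcount := dl_homs_le hV₀ hU hS Y hY EC
    (by rw [hdV, hdD]; exact fun X hX => hbound X ((hX.trans hECS).trans hS₀M)) (by rw [hdV, hdD]; exact hECt)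
  have hGC1 : dl GC + dl EC ≤ cd EC := le_trans (Nat.add_le_add_right (dl_mono hGCle) _) hcount
  set E' := (E ⊓ S₀) ⊔ EC with hE'
  have hE'kill : C ⊔ K ≤ ann E' := by
    intro y hy
    rw [ann_sup]
    refine ⟨?_, ?_⟩
    · have : C ⊔ K ≤ ann (E ⊓ S₀) :=
        sup_le (hCE.trans (ann_anti inf_le_left)) (ann_anti inf_le_right)
      exact this hy
    · show y ∈ ann EC
      rw [mem_ann_iff_le, hEC, iSup_le_iff]
      rintro f _ ⟨z, hz, rfl⟩
      show z ((f : Y →* Y ⧸ ann D₀) y) = 1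
      rw [show (f : Y →* Y ⧸ ann D₀) y = 1 from DFunLike.congr_fun (MonoidHom.mem_ker.mp f.2.2) ⟨y, hy⟩, map_one]
  have hE'b := hbound E' (sup_le (inf_le_right.trans hS₀M) (hECS.trans hS₀M))
  have hmono : dl E' + cd EC ≤ dl EC + cd E' := by
    obtain ⟨j, hj⟩ := Nat.le.dest (cd_mono (le_sup_right : EC ≤ E'))
    obtain ⟨k, hk⟩ := Nat.le.dest hlt₀.le
    have h4 : dl EC * c₀ = d₀ * cd EC := hECt
    refine Nat.le_of_mul_le_mul_right (c := c₀) ?_ (by omega)
    rw [Nat.add_mul, Nat.add_mul, h4]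
    refine le_trans (Nat.add_le_add_right hE'b _) ?_
    rw [← hj, ← hk]
    nlinarith
  have hGC2 : dl GC + dl (E ⊓ S₀) + dl (C ⊔ K) ≤ dl (⊤ : Subgroup Y) := by
    have := dl_mono (show E ⊓ S₀ ≤ E' from le_sup_left)
    have := cd_add E'
    have := dl_mono hE'kill
    omega
  -- the dual of the homomorphisms
  haveI := finite_hom H Two.{u}
  set W₁ := (H →* Two.{u}) with hW₁
  set χ₁ := preAct (V := Two.{u}) χH with hχ₁
  have hfix₁ : dl (⊤ : Subgroup W₁) ≤ dl GC + dl (fix χ₁ A) := by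
    haveI := finite_hom (GC.subgroupOf H) Two.{u}
    set r₂ := pre (U := Two.{u}) (GC.subgroupOf H).subtype
    have hle : r₂.ker ≤ fix χ₁ A := by
      intro f hf a ha
      refine MonoidHom.ext fun h => ?_
      show f (χH a⁻¹ h) = f h
      have hm : χH a⁻¹ h * h⁻¹ ∈ GC.subgroupOf H := by
        rw [Subgroup.mem_subgroupOf]
        refine ⟨(χH a⁻¹ h * h⁻¹).2, MonoidHom.mem_ker.mpr (MonoidHom.ext fun y => ?_)⟩
        show (h : Y →* Y ⧸ ann D₀) (ψ (a⁻¹)⁻¹ (y : Y)) * ((h : Y →* Y ⧸ ann D₀) (y : Y))⁻¹ = 1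
        rw [inv_inv, ← map_inv, ← map_mul]
        have h1 : C ⊔ K ≤ (⊤ : Subgroup Y) := le_top
        obtain ⟨c, hc, k, hk, hyk⟩ := Subgroup.mem_sup.mp y.2
        rw [← hyk, map_mul (ψ a), hC hc a ha, mul_inv_rev, ← mul_assoc, mul_assoc c (ψ a k) k⁻¹,
          mul_comm c, mul_inv_cancel_right]
        have hkk : ψ a k * k⁻¹ ∈ K := mul_mem (hKinv a k hk) (inv_mem hk)
        refine (Subgroup.eq_bot_iff_forall _).mp hS.faithful _ fun z hz => ?_
        exact hkk _ (h.2 z hz)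
      have h2 := DFunLike.congr_fun (MonoidHom.mem_ker.mp hf) (⟨_, hm⟩ : GC.subgroupOf H)
      have h3 : f (χH a⁻¹ h * h⁻¹) = 1 := h2
      rw [map_mul f, map_inv f, mul_inv_eq_one] at h3
      exact h3
    have h1 := dl_map_add exp2_two.hom exp2_two.hom r₂ ⊤
    rw [top_inf_eq] at h1
    have h2 := dl_dual_le (GC.subgroupOf H) ((hV₀.hom.subgroup H).subgroup _)
    have h3 : dl (⊤ : Subgroup (GC.subgroupOf H)) = dl GC := by
      rw [dl, dl, Subgroup.card_top, Nat.card_congr (Subgroup.subgroupOfEquivOfLe inf_le_left).toEquiv]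
    have h4 := dl_mono hle
    have h5 : dl ((⊤ : Subgroup W₁).map r₂) ≤ dl (⊤ : Subgroup ((GC.subgroupOf H) →* Two.{u})) := dl_mono le_top
    omega
  letI := iW
  haveI := fW
  have hprod : ∀ (S : Subgroup W₁) (S' : Subgroup W'), dl (S.prod S') = dl S + dl S' := by
    intro S S'
    rw [dl, Nat.card_congr (Subgroup.prodEquiv S S').toEquiv, Nat.card_prod, card_eq_pow exp2_two.hom,
      card_eq_pow hW', ← pow_add, Nat.log_pow one_lt_two]
  have hWW : Exp2 (W₁ × W') := fun x => Prod.ext (exp2_two.hom x.1) (hW' x.2)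
  refine ⟨W₁ × W', inferInstance, inferInstance, prodAct χ₁ χ', hWW, ?_, ?_, fun hq => ?_⟩
  · have hf : fix (prodAct χ₁ χ') A = (fix χ₁ A).prod (fix χ' A) := by
      ext x
      exact ⟨fun h => ⟨fun a ha => congrArg Prod.fst (h a ha), fun a ha => congrArg Prod.snd (h a ha)⟩,
        fun h a ha => Prod.ext (h.1 a ha) (h.2 a ha)⟩
    have ht : dl (⊤ : Subgroup (W₁ × W')) = dl (⊤ : Subgroup W₁) + dl (⊤ : Subgroup W') := by
      rw [← hprod, Subgroup.top_prod_top]
    rw [hf, hprod, ht]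
    -- dimensions of the pieces
    have hE1 : dl (E.map r) + dl (E ⊓ S₀) = dl E := by
      have h := dl_map_add hU.hom hU.hom r E
      rwa [show E ⊓ r.ker = E ⊓ S₀ by
        rw [← hZ, ← inf_assoc, inf_eq_left.mpr hEM]] at h
    have hC1 := dl_sup_add_inf hY C K
    have hC2 : dl (C.comap K.subtype) = dl (C ⊓ K) := by
      rw [← dl_map_subtype K, Subgroup.map_comap_eq, Subgroup.range_subtype, inf_comm]
    rw [dl_top_subgroup, hC2] at hb'
    omega
  · intro g hg h1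
    have h1' : χ₁ g = 1 := MulEquiv.ext fun f => congrArg Prod.fst (DFunLike.congr_fun h1 ((f, 1) : W₁ × W'))
    have h2' : χ' g = 1 := MulEquiv.ext fun w => congrArg Prod.snd (DFunLike.congr_fun h1 ((1, w) : W₁ × W'))
    have hK1 : ∀ y ∈ K, ψ g y = y := fun y hy =>
      congrArg Subtype.val (DFunLike.congr_fun (hodd' g hg h2') (⟨y, hy⟩ : K))
    have hH1 : ∀ f : H, χH g⁻¹ f = f := by
      intro f
      by_contra hne
      obtain ⟨e, he⟩ := exists_hom_ne_one (hV₀.hom.subgroup H) (x := χH g⁻¹ f * f⁻¹)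
        (fun h => hne (mul_inv_eq_one.mp h))
      have h3 : e (χH g⁻¹ f) = e f := DFunLike.congr_fun (DFunLike.congr_fun h1' e) f
      exact he (by rw [map_mul e, map_inv e, h3, mul_inv_cancel])
    have hmod : ∀ y, ψ g y * y⁻¹ ∈ K := by
      intro y
      rw [hK, hS₀, mem_ann_iff_le, iSup_le_iff]
      rintro h _ ⟨z, hz, rfl⟩
      obtain ⟨z', hz', rfl⟩ := hDmap.ge hz
      have hmem : q.comp (ψ h).toMonoidHom ∈ H := fun w hw =>
        le_iSup τ h ⟨w.comp q, hw, rfl⟩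
      have h4 : q (ψ h (ψ (g⁻¹)⁻¹ y)) = q (ψ h y) :=
        DFunLike.congr_fun (congrArg Subtype.val (hH1 ⟨_, hmem⟩)) y
      rw [inv_inv] at h4
      show z' (q (ψ h (ψ g y * y⁻¹))) = 1
      rw [map_mul (ψ h), map_inv (ψ h), map_mul q, map_inv q, h4, mul_inv_cancel, map_one]
    have hsq : ψ g * ψ g = 1 := by
      refine MulEquiv.ext fun y => ?_
      show ψ g (ψ g y) = y
      have e : ψ g y = (ψ g y * y⁻¹) * y := (inv_mul_cancel_right _ _).symm
      calc ψ g (ψ g y) = ψ g ((ψ g y * y⁻¹) * y) := congrArg (ψ g) e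
        _ = (ψ g y * y⁻¹) * ((ψ g y * y⁻¹) * y) := by
          rw [map_mul (ψ g), hK1 _ (hmod y), ← e]
        _ = y := by rw [← mul_assoc, hY, one_mul]
    have h5 : orderOf (ψ g) ∣ 2 := orderOf_dvd_of_pow_eq_one (by rw [pow_two]; exact hsq)
    rcases (Nat.dvd_prime Nat.prime_two).mp h5 with h6 | h6
    · exact orderOf_eq_one_iff.mp h6
    · exact absurd (h6 ▸ orderOf_map_dvd ψ g) fun hd =>
        Nat.not_even_iff_odd.mpr hg (even_iff_two_dvd.mpr hd)
  · exact fun e he f hf x => Prod.ext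
      (quad_preAct (quad_restr _ hHinv (quad_preAct hq)) e he f hf x.1)
      (hquad' (quad_restr _ hKinv hq) e he f hf x.2)

end CfsgLib.Fusion.SFreeFF
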