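import Cfsg.Agent.Lib.Fusion.SFreeFF.Setup
import Cfsg.Agent.Lib.Fusion.SFreeFF.Pair
import Cfsg.Agent.Lib.Fusion.Basic

/-!
No quadratic offender when `J` lies in a proper subgroup moving a minimal submodule of its fixed points.
-/

set_option autoImplicit false
set_option linter.unusedSectionVars false
set_option linter.style.haveILetI false

namespace CfsgLib.Fusion.SFreeFF

open CfsgLib.Fusion.CentralOffender

universe u

/-- The setwise stabiliser. -/
def setStab {V G : Type u} [CommGroup V] [Finite V] [Group G] (φ : G →* MulAut V) (U : Subgroup V) :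
    Subgroup G where
  carrier := {g | ∀ u ∈ U, φ g u ∈ U}
  one_mem' := fun u hu => by rw [apply_one]; exact hu
  mul_mem' := fun {a b} ha hb u hu => by rw [apply_mul]; exact ha _ (hb u hu)
  inv_mem' := fun {a} ha u hu => by
    have hinj : Function.Injective (fun x : U => (⟨φ a x, ha x x.2⟩ : U)) := fun x y h =>
      Subtype.ext ((φ a).injective (congrArg Subtype.val h))
    obtain ⟨x, hx⟩ := (Finite.injective_iff_surjective.mp hinj) ⟨u, hu⟩
    rw [← show φ a x = u from congrArg Subtype.val hx, apply_inv]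
    exact x.2

/-- Members of largest `dim + dim ann` have a greatest element, which is invariant. -/
theorem exists_greatest {Y U : Type u} [CommGroup Y] [CommGroup U] [Finite Y] [Finite U] (hY : Exp2 Y)
    (hU : Exp2 U) (M : Subgroup (Y →* U)) {E₀ : Subgroup (Y →* U)} (hE₀ : E₀ ≤ M) (hne : E₀ ≠ ⊥)
    (hbad : cd E₀ ≤ dl E₀) :
    ∃ E ≤ M, E ≠ ⊥ ∧ (∀ F ≤ M, dl F + dl (ann F) ≤ dl E + dl (ann E)) ∧
      ∀ F ≤ M, dl E + dl (ann E) ≤ dl F + dl (ann F) → F ≤ E := by
  haveI := finite_hom Y U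
  obtain ⟨E₁, hE₁, hmax⟩ := Set.exists_max_image {E : Subgroup (Y →* U) | E ≤ M} (fun E => dl E + dl (ann E))
    (Set.toFinite _) ⟨M, (le_rfl : M ≤ M)⟩
  obtain ⟨E, ⟨hE, hEmax⟩, hbig⟩ := Set.exists_max_image
    {E : Subgroup (Y →* U) | E ≤ M ∧ dl E₁ + dl (ann E₁) ≤ dl E + dl (ann E)} (fun E => Nat.card E)
    (Set.toFinite _) ⟨E₁, hE₁, le_rfl⟩
  have hle : ∀ F ≤ M, dl E₁ + dl (ann E₁) ≤ dl F + dl (ann F) → F ≤ E := by
    intro F hF hFmax
    have h1 := dl_sup_add_inf hU.hom E F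
    have h2 := dl_sup_add_inf hY (ann E) (ann F)
    rw [← ann_sup] at h2
    have h3 := dl_mono (ann_inf E F)
    have h4 := hmax (E ⊓ F) (inf_le_left.trans hE)
    have h5 := hbig (E ⊔ F) ⟨sup_le hE hF, by omega⟩
    exact le_sup_right.trans (Subgroup.eq_of_le_of_card_ge le_sup_left h5).ge
  refine ⟨E, hE, fun h => ?_, fun F hF => (hmax F hF).trans hEmax, fun F hF h => hle F hF (hEmax.trans h)⟩
  have h1 := cd_add E₀
  have h2 := hmax E hE
  rw [h, dl_bot, zero_add, ann_bot] at h2 hEmax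
  have h3 := hle E₀ hE₀ (by omega)
  exact hne (le_bot_iff.mp (h ▸ h3))

variable {V : Type u} [CommGroup V] [Finite V] {G : Type u} [Group G] [Finite G] {φ : G →* MulAut V}

/-- A minimal submodule of the fixed points of `J` and a minimal overgroup of `J` moving it. -/
structure Pick (φ : G →* MulAut V) (T : Subgroup G) (Z : Subgroup V) (L TL : Subgroup G) : Prop where
  inj : Function.Injective φ
  exp2 : Exp2 V
  noS3 : NoS3 G
  small : NF.{u} (Nat.card G)
  syl : SylIn T ⊤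
  fixes : Z ≤ fix φ (J φ T)
  ne_top : setStab φ Z ≠ ⊤
  normalizer_le : Subgroup.normalizer (J φ T : Set G) ≤ setStab φ Z
  irred : ∀ U ≤ Z, U ≠ ⊥ → (∀ g ∈ setStab φ Z, ∀ u ∈ U, φ g u ∈ U) → U = Z
  proper : L ≠ ⊤
  J_le : J φ T ≤ L
  moves : ¬ L ≤ setStab φ Z
  minimal : ∀ L' ≤ L, J φ T ≤ L' → L' ≠ L → L' ≤ setStab φ Z
  sylL : SylIn TL L
  J_le_syl : J φ T ≤ TL

variable {T : Subgroup G} {Z : Subgroup V} {L TL : Subgroup G}

theorem Pick.card_lt {K : Subgroup G} (hK : K ≠ ⊤) : Nat.card K < Nat.card G :=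
  lt_of_le_of_ne (Subgroup.card_le_card_group K) fun h => hK (Subgroup.eq_top_of_card_eq K h)

theorem Pick.syl_le (k : Pick φ T Z L TL) : TL ≤ setStab φ Z :=
  (le_normalizer_J k.syl k.sylL.pgroup k.J_le_syl).trans k.normalizer_le

theorem Pick.normal_eq_top (k : Pick φ T Z L TL) {N : Subgroup L} [hN : N.Normal]
    (h : (J φ T).subgroupOf L ≤ N) : N = ⊤ := by
  by_contra hne
  set N' := N.map L.subtype
  have hNL : N' ≤ L := Subgroup.map_subtype_le N
  have hD : J φ T ≤ N' := fun x hx => ⟨⟨x, k.J_le hx⟩, h hx, rfl⟩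
  have hN'ne : N' ≠ L := fun e => hne (Subgroup.map_injective L.subtype_injective
    (e.trans ((MonoidHom.range_eq_map _).symm.trans L.range_subtype).symm))
  have hnorm : L ≤ Subgroup.normalizer (N' : Set G) := fun l hl => by
    refine mem_normalizer_iff_cj.mpr (Subgroup.eq_of_le_of_card_ge ?_ (card_cj _ _).ge)
    rintro _ ⟨_, ⟨x, hx, rfl⟩, rfl⟩
    exact ⟨⟨l, hl⟩ * x * ⟨l, hl⟩⁻¹, hN.conj_mem x hx _, rfl⟩
  refine k.moves ((frattini k.sylL hNL hnorm).trans (sup_le (k.minimal N' hNL hD hN'ne) ?_))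
  refine inf_le_right.trans ((normalizer_le_J (φ := φ) _).trans ?_)
  rw [J_eq k.syl (k.sylL.pgroup.to_le inf_le_left) (le_inf k.J_le_syl hD)]
  exact k.normalizer_le

/-- A conjugate of a best quadratic subgroup of `J` pushes a vector of `Z` into the fixed points of `L`. -/
theorem Pick.conj_trivial (k : Pick φ T Z L TL) {A : Subgroup G} (hA : BQ φ A) (hAD : A ≤ J φ T)
    {g : G} (hg : g ∈ L) {x : G} (hx : x ∈ cj A g) {z : V} (hz : z ∈ Z)
    (hzw : φ x z * z⁻¹ ∈ Z ⊔ fix φ L) : φ x z * z⁻¹ ∈ fix φ L := by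
  have hfix : φ x z * z⁻¹ ∈ fix φ (cj A g) := (quad_map φ hA.quad g).mem_fix hx z
  have hAgL : cj A g ≤ L := (cj_mono (hAD.trans k.J_le) g).trans (cj_eq_self_of_mem hg).le
  by_cases hle : cj A g ≤ setStab φ Z
  · have hTLs : SylIn TL (L ⊓ setStab φ Z) :=
      ⟨le_inf k.sylL.le k.syl_le, k.sylL.pgroup, fun Q hQ hQ2 h => k.sylL.max Q (hQ.trans inf_le_left) hQ2 h⟩
    obtain ⟨l, hl, hAl⟩ := hTLs.exists_conj_le (le_inf hAgL hle) ((hA.cj g).isPGroup k.inj k.exp2)
    have h1 : cj A g ≤ cj (J φ T) l := by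
      rw [← J_eq k.syl k.sylL.pgroup k.J_le_syl, cj_J]
      exact (hA.cj g).le_J hAl
    have hzfix : z ∈ fix φ (cj (J φ T) l) := by
      rw [cj, fix_map]
      exact ⟨φ l⁻¹ z, k.fixes ((setStab φ Z).inv_mem hl.2 z hz), apply_inv' φ l z⟩
    rw [show φ x z = z from hzfix x (h1 hx), mul_inv_cancel]
    exact one_mem _
  · have hL : J φ T ⊔ cj A g = L := by
      by_contra hne
      exact hle (le_sup_right.trans (k.minimal _ (sup_le k.J_le hAgL) le_sup_left hne))
    have hDfix : φ x z * z⁻¹ ∈ fix φ (J φ T) :=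
      (sup_le k.fixes (fix_anti φ k.J_le) : Z ⊔ fix φ L ≤ _) hzw
    rw [← hL]
    intro e he
    exact ((sup_le (fun e he => hDfix e he) (fun e he => hfix e he)) :
      J φ T ⊔ cj A g ≤ (MulAction.stabilizer (MulAut V) (φ x z * z⁻¹)).comap φ) he

set_option maxHeartbeats 4000000 in
theorem Pick.false (k : Pick φ T Z L TL) : False := by
  haveI : Fact (Nat.Prime 2) := ⟨Nat.prime_two⟩
  set χ₀ := φ.comp L.subtype with hχ₀
  set W₀ := fix φ L with hW₀
  set S₁ := {v : V | ∃ l ∈ L, ∃ z ∈ Z, φ l z = v} with hS₁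
  set Y := Subgroup.closure S₁ ⊔ W₀ with hY
  have hZY : Z ≤ Y := fun z hz =>
    Subgroup.mem_sup_left (Subgroup.subset_closure ⟨1, L.one_mem, z, hz, apply_one φ z⟩)
  have hYinv : ∀ l : L, ∀ v ∈ Y, χ₀ l v ∈ Y := by
    intro l
    refine fun v hv => ((sup_le ((Subgroup.closure_le _).mpr ?_) fun w hw => ?_) :
      Y ≤ Y.comap (φ (l : G)).toMonoidHom) hv
    · rintro _ ⟨l', hl', z, hz, rfl⟩
      exact Subgroup.mem_sup_left (Subgroup.subset_closure ⟨l * l', L.mul_mem l.2 hl', z, hz, apply_mul φ _ _ z⟩)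
    · show φ (l : G) w ∈ Y
      rw [hw l l.2]
      exact Subgroup.mem_sup_right hw
  set χY := restr χ₀ Y hYinv with hχY
  have hWinv : ∀ l : L, ∀ y ∈ W₀.subgroupOf Y, χY l y ∈ W₀.subgroupOf Y := by
    intro l y hy
    show φ (l : G) (y : V) ∈ W₀
    rw [show φ (l : G) (y : V) = y from hy l l.2]
    exact hy
  set ψ := quot χY (W₀.subgroupOf Y) hWinv with hψ
  have hYb : Exp2 (Y ⧸ W₀.subgroupOf Y) := (k.exp2.subgroup Y).quotient _
  have hU : Exp2 W₀ := k.exp2.subgroup W₀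
  have hkerY : ∀ n : L, n ∈ ψ.ker → ∀ y : Y, φ (n : G) (y : V) * (y : V)⁻¹ ∈ W₀ := fun n hn y =>
    (eq_mk_iff (W₀.subgroupOf Y) (χY n y) y).mp (DFunLike.congr_fun (MonoidHom.mem_ker.mp hn) (QuotientGroup.mk y))
  -- the homomorphisms attached to the kernel
  let δ₁ : ψ.ker → ((Y ⧸ W₀.subgroupOf Y) →* W₀) := fun n =>
    QuotientGroup.lift (W₀.subgroupOf Y)
      (MonoidHom.mk' (fun y : Y => (⟨φ (n : L) (y : V) * (y : V)⁻¹, hkerY n n.2 y⟩ : W₀)) fun a b => Subtype.ext (by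
        show φ ((n : L) : G) ((a : V) * b) * ((a : V) * b)⁻¹ = _
        rw [map_mul, mul_inv, mul_mul_mul_comm]
        rfl))
      fun y hy => MonoidHom.mem_ker.mpr (Subtype.ext (by
        show φ ((n : L) : G) (y : V) * (y : V)⁻¹ = 1
        rw [show φ ((n : L) : G) (y : V) = y from hy _ (n : L).2, mul_inv_cancel]))
  have hδ₁ : ∀ (n : ψ.ker) (y : Y), (δ₁ n (QuotientGroup.mk y) : V) = φ ((n : L) : G) (y : V) * (y : V)⁻¹ :=
    fun _ _ => rfl
  let δ : ψ.ker →* ((Y ⧸ W₀.subgroupOf Y) →* W₀) := MonoidHom.mk' δ₁ fun a b =>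
    MonoidHom.ext fun x => QuotientGroup.induction_on x fun y => Subtype.ext (by
      show (δ₁ (a * b) (QuotientGroup.mk y) : V) = (δ₁ a (QuotientGroup.mk y) : V) * (δ₁ b (QuotientGroup.mk y) : V)
      rw [hδ₁, hδ₁, hδ₁]
      set w := φ ((b : L) : G) (y : V) * (y : V)⁻¹ with hw
      have hwW : w ∈ W₀ := hkerY b b.2 y
      rw [show ((a * b : ψ.ker) : L) = ((a : L) * (b : L) : L) from rfl, Subgroup.coe_mul, apply_mul,
        show φ ((b : L) : G) (y : V) = w * y from (inv_mul_cancel_right _ _).symm, map_mul,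
        hwW _ (a : L).2, mul_comm w, mul_assoc, mul_comm w, ← mul_assoc])
  have hδ : ∀ (n : ψ.ker) (y : Y), (δ n (QuotientGroup.mk y) : V) = φ ((n : L) : G) (y : V) * (y : V)⁻¹ := hδ₁
  set M := δ.range with hM
  -- a best quadratic subgroup outside the kernel
  obtain ⟨A, hA, hAD, hAN⟩ : ∃ A, BQ φ A ∧ A ≤ J φ T ∧ ¬ A.subgroupOf L ≤ ψ.ker := by
    by_contra hall
    push Not at hall
    have hD : (J φ T).subgroupOf L ≤ ψ.ker := by
      have h : J φ T ≤ ψ.ker.map L.subtype := sSup_le fun A hA x hx =>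
        ⟨⟨x, k.J_le (hA.2.le_J hA.1 hx)⟩, hall A hA.2 (hA.2.le_J hA.1) hx, rfl⟩
      intro x hx
      obtain ⟨y, hy, he⟩ := h hx
      exact Subtype.ext he ▸ hy
    have htop := k.normal_eq_top hD
    refine k.moves fun l hl z hz => ?_
    have hz0 : z ∈ W₀ := by
      let ev : ψ.ker →* W₀ := MonoidHom.mk' (fun n => δ n (QuotientGroup.mk ⟨z, hZY hz⟩)) fun a b => by
        rw [map_mul]; rfl
      let N₀ : Subgroup L := ev.ker.map ψ.ker.subtype
      haveI : N₀.Normal := ⟨by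
        rintro _ ⟨n, hn, rfl⟩ y
        refine ⟨⟨y, htop ▸ Subgroup.mem_top y⟩ * n * ⟨y, htop ▸ Subgroup.mem_top y⟩⁻¹, ?_, rfl⟩
        exact (MonoidHom.normal_ker ev).conj_mem n hn _⟩
      have hN₀ : N₀ = ⊤ := k.normal_eq_top fun x hx => by
        refine ⟨⟨x, hD hx⟩, MonoidHom.mem_ker.mpr (Subtype.ext ?_), rfl⟩
        show φ (x : G) z * z⁻¹ = 1
        rw [show φ (x : G) z = z from k.fixes hz _ hx, mul_inv_cancel]
      intro x hx
      obtain ⟨n, hn, he⟩ := (hN₀.symm ▸ Subgroup.mem_top (⟨x, hx⟩ : L) : (⟨x, hx⟩ : L) ∈ N₀)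
      have h := congrArg Subtype.val (MonoidHom.mem_ker.mp hn)
      have h' : φ ((n : L) : G) z * z⁻¹ = 1 := h
      rw [show ((n : L) : G) = x from congrArg Subtype.val he, mul_inv_eq_one] at h'
      exact h'
    rw [hz0 l hl]; exact hz
  set AL := A.subgroupOf L with hAL
  have hALle : A ≤ L := hAD.trans k.J_le
  have hqψ : Quad ψ AL := quad_quot _ hWinv (quad_restr _ hYinv fun e he f hf v => hA.quad e he f hf v)
  -- the preimage of the 2-core
  haveI := (CfsgLib.Solvable.Cores.pCore_normal (G := ψ.range) 2).comap ψ.rangeRestrict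
  set P := (Cfsg.pCore 2 ψ.range).comap ψ.rangeRestrict with hP
  have hPmap : (TL.subgroupOf L ⊓ P).map ψ = P.map ψ := by
    refine (k.sylL.subgroupOf.inf le_top (by rw [Subgroup.normalizer_eq_top]) : SylIn _ P).map_eq ψ
      (((CfsgLib.Solvable.Cores.isPGroup_pCore 2).map ψ.range.subtype).to_le ?_)
    rintro _ ⟨r, hr, rfl⟩
    exact ⟨_, hr, rfl⟩
  have hAP : AL ⊓ P ≤ ψ.ker := by
    rintro a ⟨ha, haP⟩
    let S : Subgroup V :=
      { carrier := {v | φ (a : G) v * v⁻¹ ∈ W₀}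
        one_mem' := by show φ (a : G) 1 * 1⁻¹ ∈ W₀; rw [map_one, mul_inv_cancel]; exact one_mem _
        mul_mem' := fun {v w} hv hw => by
          show φ (a : G) (v * w) * (v * w)⁻¹ ∈ W₀
          rw [map_mul, mul_inv, mul_mul_mul_comm]
          exact W₀.mul_mem hv hw
        inv_mem' := fun {v} hv => by
          show φ (a : G) v⁻¹ * v⁻¹⁻¹ ∈ W₀
          rw [map_inv, ← mul_inv]
          exact W₀.inv_mem hv }
    have hS : Y ≤ S := by
      refine sup_le ((Subgroup.closure_le _).mpr ?_) fun w hw => ?_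
      swap
      · show φ (a : G) w * w⁻¹ ∈ W₀
        rw [hw _ a.2, mul_inv_cancel]
        exact one_mem _
      rintro _ ⟨l, hl, z, hz, rfl⟩
      set lL : L := ⟨l, hl⟩
      set x : L := lL⁻¹ * a * lL with hx
      have hxP : x ∈ P := by
        have h := (inferInstance : P.Normal).conj_mem a haP lL⁻¹
        rwa [inv_inv] at h
      have hxA : (x : G) ∈ cj A l⁻¹ := mem_cj.mpr (by
        show l⁻¹⁻¹ * (l⁻¹ * (a : G) * l) * l⁻¹ ∈ A
        rw [show l⁻¹⁻¹ * (l⁻¹ * (a : G) * l) * l⁻¹ = a by group]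
        exact ha)
      obtain ⟨t, ht, hte⟩ := hPmap.ge (Subgroup.mem_map_of_mem ψ hxP)
      have hn : x * t⁻¹ ∈ ψ.ker := MonoidHom.mem_ker.mpr (by rw [map_mul, map_inv, hte, mul_inv_cancel])
      have htz : φ (t : G) z ∈ Z := k.syl_le ht.1 z hz
      have hw := hkerY _ hn ⟨φ (t : G) z, hZY htz⟩
      have e : φ (x : G) z * z⁻¹ =
          (φ ((x * t⁻¹ : L) : G) (φ (t : G) z) * (φ (t : G) z)⁻¹) * (φ (t : G) z * z⁻¹) := by
        rw [← apply_mul, show ((x * t⁻¹ : L) : G) * (t : G) = (x : G) by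
          rw [Subgroup.coe_mul, Subgroup.coe_inv, inv_mul_cancel_right], mul_assoc, inv_mul_cancel_left]
      have hin : φ (x : G) z * z⁻¹ ∈ Z ⊔ W₀ := by
        rw [e]
        exact mul_mem (Subgroup.mem_sup_right hw) (Subgroup.mem_sup_left (mul_mem htz (inv_mem hz)))
      have h := k.conj_trivial hA hAD (L.inv_mem hl) hxA hz hin
      show φ (a : G) (φ l z) * (φ l z)⁻¹ ∈ W₀
      have e2 : φ (a : G) (φ l z) * (φ l z)⁻¹ = φ l (φ (x : G) z * z⁻¹) := by
        rw [map_mul (φ l), map_inv (φ l), ← apply_mul, ← apply_mul]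
        congr 3
        show (a : G) * l = l * (l⁻¹ * (a : G) * l)
        group
      rw [e2, h l hl]
      exact h
    refine MonoidHom.mem_ker.mpr (MulEquiv.ext fun q => QuotientGroup.induction_on q fun y => ?_)
    exact (eq_mk_iff _ _ _).mpr (hS y.2)
  -- invariance
  have hMinv : ∀ g : L, ∀ f ∈ M, f.comp (ψ g).toMonoidHom ∈ M := by
    rintro g _ ⟨n, rfl⟩
    have hm : g⁻¹ * (n : L) * g ∈ ψ.ker := by
      simpa using (MonoidHom.normal_ker ψ).conj_mem (n : L) n.2 g⁻¹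
    refine ⟨⟨_, hm⟩, MonoidHom.ext fun q => QuotientGroup.induction_on q fun y => Subtype.ext ?_⟩
    show (δ ⟨_, hm⟩ (QuotientGroup.mk y) : V) = (δ n (QuotientGroup.mk (χY g y)) : V)
    rw [hδ, hδ]
    show φ ((g : G)⁻¹ * ((n : L) : G) * g) (y : V) * (y : V)⁻¹ =
      φ ((n : L) : G) (φ (g : G) y) * (φ (g : G) (y : V))⁻¹
    have hw := hkerY n n.2 (χY g y)
    change φ ((n : L) : G) (φ (g : G) y) * (φ (g : G) (y : V))⁻¹ ∈ W₀ at hw
    rw [← hw _ (L.inv_mem g.2), map_mul (φ (g : G)⁻¹), map_inv (φ (g : G)⁻¹), apply_inv, ← apply_mul, ← apply_mul]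
  -- the kernel is covered by its Sylow subgroup
  haveI := finite_hom (Y ⧸ W₀.subgroupOf Y) W₀
  set R := (TL.subgroupOf L).subgroupOf ψ.ker with hR
  have hRmap : R.map δ = M := by
    rw [hM, MonoidHom.range_eq_map]
    have hs : SylIn R ⊤ := by
      have h := (k.sylL.subgroupOf.inf le_top (by rw [Subgroup.normalizer_eq_top]) :
        SylIn (TL.subgroupOf L ⊓ ψ.ker) ψ.ker).subgroupOf
      rwa [Subgroup.inf_subgroupOf_right] at h
    exact hs.map_eq δ (hU.hom.isPGroup _)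
  set Hs := setStab φ Z with hHs
  -- positivity
  have hpos : ∀ E ≤ M, E ≠ ⊥ → dl E < cd E := by
    intro E₀ hE₀ hne₀
    by_contra hbad
    obtain ⟨E, hEM, hEne, hmax, hgr⟩ := exists_greatest hYb hU M hE₀ hne₀ (not_lt.mp hbad)
    have hEinv : ∀ g : L, ∀ f ∈ E, f.comp (ψ g).toMonoidHom ∈ E := by
      intro g f hf
      set p := pre (U := W₀) (ψ g).toMonoidHom
      refine hgr (E.map p) ?_ ?_ ⟨f, hf, rfl⟩
      · rintro _ ⟨f, hf, rfl⟩; exact hMinv g f (hEM hf)
      · have e1 : dl (E.map p) = dl E := by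
          rw [dl, dl, Subgroup.card_map_of_injective fun a b hab => MonoidHom.ext fun y => by
            simpa [p] using DFunLike.congr_fun hab ((ψ g).symm y)]
        have e2 : ann (E.map p) = (ann E).map (ψ g).symm.toMonoidHom := by
          ext y
          refine ⟨fun hy => ⟨ψ g y, fun z hz => hy _ ⟨z, hz, rfl⟩, (ψ g).symm_apply_apply y⟩, ?_⟩
          rintro ⟨w, hw, rfl⟩ _ ⟨z, hz, rfl⟩
          show z (ψ g ((ψ g).symm w)) = 1
          rw [(ψ g).apply_symm_apply]
          exact hw z hz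
        have e3 : dl (ann (E.map p)) = dl (ann E) := by
          rw [e2, dl, dl, Subgroup.card_map_of_injective (f := (ψ g).symm.toMonoidHom) (ψ g).symm.injective]
        omega
    set B := R ⊓ E.comap δ with hB
    have hBmap : B.map δ = E := by
      refine le_antisymm (by rintro _ ⟨x, hx, rfl⟩; exact hx.2) fun f hf => ?_
      obtain ⟨x, hx, rfl⟩ := hRmap.ge (hEM hf)
      exact ⟨x, ⟨hx, hf⟩, rfl⟩
    let ι : ψ.ker →* G := L.subtype.comp ψ.ker.subtype
    have hBH : B.map ι ≤ Hs := by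
      rintro _ ⟨x, hx, rfl⟩
      exact k.syl_le hx.1
    set B₀ := B ⊓ (stab φ Z).comap ι with hB₀
    have hZinv : ∀ g : Hs, ∀ z ∈ Z, (φ.comp Hs.subtype) g z ∈ Z := fun g z hz => g.2 z hz
    set ρ := restr (φ.comp Hs.subtype) Z hZinv
    have hirr : Irred ρ := by
      intro U hU
      by_cases hb : U = ⊥
      · exact Or.inl hb
      refine Or.inr (Subgroup.map_injective Z.subtype_injective ?_)
      rw [← MonoidHom.range_eq_map, Z.range_subtype]
      refine k.irred _ (Subgroup.map_subtype_le U)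
        (fun h => hb ((Subgroup.map_eq_bot_iff_of_injective U Z.subtype_injective).mp h)) ?_
      rintro g hg _ ⟨u, hu, rfl⟩
      exact ⟨ρ ⟨g, hg⟩ u, hU _ u hu, rfl⟩
    set BH := (B.map ι).subgroupOf Hs
    have hBq : Quad ρ BH := by
      intro e he f hf z
      obtain ⟨b, hb, hbf⟩ := hf
      refine Subtype.ext ?_
      show φ (e : G) (φ (f : G) z * (z : V)⁻¹) = φ (f : G) z * (z : V)⁻¹
      obtain ⟨b', hb', hbe⟩ := he
      rw [← show ι b = (f : G) from hbf, ← show ι b' = (e : G) from hbe]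
      exact (hkerY b b.2 ⟨z, hZY z.2⟩ : φ (ι b) (z : V) * (z : V)⁻¹ ∈ W₀) _ (b' : L).2
    -- the map into the quotient
    let g₀ : Z →* Y ⧸ W₀.subgroupOf Y := (QuotientGroup.mk' _).comp (Subgroup.inclusion hZY)
    have hfixB : fix ρ BH = (ann E).comap g₀ := by
      ext z
      constructor
      · intro hz f hf
        obtain ⟨x, hx, rfl⟩ := hBmap.ge hf
        refine Subtype.ext ?_
        have h := congrArg Subtype.val (hz (⟨ι x, hBH ⟨x, hx, rfl⟩⟩ : Hs) ⟨x, hx, rfl⟩)
        show (δ x (QuotientGroup.mk (Subgroup.inclusion hZY z)) : V) = 1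
        rw [hδ, mul_inv_eq_one]
        exact h
      · intro hz e he
        obtain ⟨x, hx, hxe⟩ := he
        refine Subtype.ext ?_
        have h := congrArg Subtype.val (hz (δ x) (hBmap.le ⟨x, hx, rfl⟩))
        change (δ x (QuotientGroup.mk (Subgroup.inclusion hZY z)) : V) = 1 at h
        rw [hδ, mul_inv_eq_one] at h
        show φ (e : G) (z : V) = z
        rw [← show ι x = (e : G) from hxe]
        exact h
    have hann0 : g₀.range ⊔ ann E ≤ ann (B₀.map δ) := by
      refine sup_le ?_ (ann_anti ((Subgroup.map_mono inf_le_left).trans hBmap.le))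
      rintro _ ⟨z, rfl⟩ _ ⟨x, hx, rfl⟩
      refine Subtype.ext ?_
      show (δ x (QuotientGroup.mk (Subgroup.inclusion hZY z)) : V) = 1
      rw [hδ, mul_inv_eq_one]
      exact hx.2 z z.2
    have hE0 : B₀.map δ ≤ M := Subgroup.map_le_range δ _
    have h1 := hmax _ hE0
    have h2 := dl_mono hann0
    have h3 := dl_sup_add_inf hYb g₀.range (ann E)
    have hc1 : 2 ^ dl (B₀.map δ) * 2 ^ dl g₀.range ≤ 2 ^ dl E * 2 ^ dl (g₀.range ⊓ ann E) := by
      rw [← pow_add, ← pow_add]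
      exact Nat.pow_le_pow_right two_pos (by omega)
    rw [← card_eq_pow hU.hom, ← card_eq_pow hYb, ← card_eq_pow hU.hom, ← card_eq_pow hYb] at hc1
    have hidx : (fix ρ BH).index * Nat.card ↥(g₀.range ⊓ ann E) = Nat.card g₀.range := by
      rw [hfixB, Subgroup.index_comap, ← Subgroup.inf_relIndex_right, inf_comm]
      have h := Subgroup.relIndex_mul_relIndex (⊥ : Subgroup (Y ⧸ W₀.subgroupOf Y)) (g₀.range ⊓ ann E) g₀.range
        bot_le inf_le_left
      rw [Subgroup.relIndex_bot_left, Subgroup.relIndex_bot_left] at h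
      rw [← h, mul_comm]
    have hrel : ρ.ker.relIndex BH * Nat.card B₀ = Nat.card B := by
      have e : ρ.ker = (stab φ Z).subgroupOf Hs := by
        ext g
        exact ⟨fun h z hz => congrArg Subtype.val (DFunLike.congr_fun (MonoidHom.mem_ker.mp h) (⟨z, hz⟩ : Z)),
          fun h => MonoidHom.mem_ker.mpr (MulEquiv.ext fun z => Subtype.ext (h z z.2))⟩
      rw [e, Subgroup.relIndex_subgroupOf hBH, ← Subgroup.relIndex_comap, ← Subgroup.inf_relIndex_right, inf_comm,
        ← hB₀]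
      have h := Subgroup.relIndex_mul_relIndex (⊥ : Subgroup ψ.ker) B₀ B bot_le inf_le_left
      rw [Subgroup.relIndex_bot_left, Subgroup.relIndex_bot_left] at h
      rw [← h, mul_comm]
    have hbm : Nat.card E * Nat.card B₀ ≤ Nat.card B * Nat.card (B₀.map δ) := by
      have hk : ∀ K : Subgroup ψ.ker, Nat.card (K.map δ) * Nat.card ↥(δ.ker ⊓ K) = Nat.card K := by
        intro K
        rw [← Subgroup.relIndex_ker, ← Subgroup.inf_relIndex_right]
        have h := Subgroup.relIndex_mul_relIndex (⊥ : Subgroup ψ.ker) (δ.ker ⊓ K) K bot_le inf_le_right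
        rw [Subgroup.relIndex_bot_left, Subgroup.relIndex_bot_left] at h
        rw [← h, mul_comm]
      rw [← hk B₀, ← hk B, hBmap]
      have := Subgroup.card_le_of_le (inf_le_inf_left δ.ker (inf_le_left : B₀ ≤ B))
      calc Nat.card E * (Nat.card (B₀.map δ) * Nat.card ↥(δ.ker ⊓ B₀))
          ≤ Nat.card E * (Nat.card (B₀.map δ) * Nat.card ↥(δ.ker ⊓ B)) :=
            Nat.mul_le_mul_left _ (Nat.mul_le_mul_left _ this)
        _ = _ := by ring
    have hfin : (fix ρ BH).index ≤ ρ.ker.relIndex BH := by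
      refine Nat.le_of_mul_le_mul_right (c := Nat.card (B₀.map δ) * Nat.card ↥(g₀.range ⊓ ann E) * Nat.card B₀) ?_
        (Nat.mul_pos (Nat.mul_pos Nat.card_pos Nat.card_pos) Nat.card_pos)
      calc (fix ρ BH).index * (Nat.card (B₀.map δ) * Nat.card ↥(g₀.range ⊓ ann E) * Nat.card B₀)
          = Nat.card (B₀.map δ) * Nat.card g₀.range * Nat.card B₀ := by rw [← hidx]; ring
        _ ≤ Nat.card E * Nat.card ↥(g₀.range ⊓ ann E) * Nat.card B₀ := Nat.mul_le_mul_right _ hc1
        _ = Nat.card E * Nat.card B₀ * Nat.card ↥(g₀.range ⊓ ann E) := by ring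
        _ ≤ Nat.card B * Nat.card (B₀.map δ) * Nat.card ↥(g₀.range ⊓ ann E) := Nat.mul_le_mul_right _ hbm
        _ = _ := by rw [← hrel]; ring
    have hker : BH ≤ ρ.ker := by
      by_contra hnot
      exact absurd (k.small.irr (noS3_subgroup k.noS3 Hs) (k.exp2.subgroup Z) hirr
        (lt_of_le_of_lt (Nat.card_le_card_of_surjective _ ρ.rangeRestrict_surjective) (Pick.card_lt k.ne_top))
        hBq hnot) (not_lt.mpr hfin)
    -- `Z` and its translates kill the invariant subgroup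
    refine hEne ((Subgroup.eq_bot_iff_forall _).mpr fun f hf =>
      MonoidHom.ext fun q => QuotientGroup.induction_on q fun y => ?_)
    let S : Subgroup V := ((ann E).comap (QuotientGroup.mk' (W₀.subgroupOf Y))).map Y.subtype
    have hS : Y ≤ S := by
      refine sup_le ((Subgroup.closure_le _).mpr ?_) fun w hw => ?_
      swap
      · refine ⟨⟨w, Subgroup.mem_sup_right hw⟩, fun z hz => ?_, rfl⟩
        exact (congrArg z ((QuotientGroup.eq_one_iff (⟨w, Subgroup.mem_sup_right hw⟩ : Y)).mpr hw)).trans (map_one z)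
      rintro _ ⟨l, hl, z, hz, rfl⟩
      refine ⟨χY ⟨l, hl⟩ ⟨z, hZY hz⟩, fun h hh => ?_, rfl⟩
      have hz' : g₀ ⟨z, hz⟩ ∈ ann E := by
        show (⟨z, hz⟩ : Z) ∈ (ann E).comap g₀
        rw [← hfixB]
        exact fun e he => DFunLike.congr_fun (MonoidHom.mem_ker.mp (hker he)) _
      exact hz' _ (hEinv ⟨l, hl⟩ h hh)
    obtain ⟨y', hy', he⟩ := hS y.2
    rw [← show y' = y from Subtype.ext he]
    exact hy' f hf
  -- the fixed part and the kernel inequality
  set C := ((fix φ A).subgroupOf Y).map (QuotientGroup.mk' (W₀.subgroupOf Y)) with hC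
  have hCfix : C ≤ fix ψ AL := by
    rintro _ ⟨y, hy, rfl⟩ a ha
    exact congrArg QuotientGroup.mk (Subtype.ext (hy a ha) : χY a y = y)
  set AN := AL.subgroupOf ψ.ker with hAN'
  set E := AN.map δ with hE
  have hEM : E ≤ M := Subgroup.map_le_range δ _
  have hCE : C ≤ ann E := by
    rintro _ ⟨y, hy, rfl⟩ _ ⟨n, hn, rfl⟩
    refine Subtype.ext ?_
    show (δ n (QuotientGroup.mk y) : V) = 1
    rw [hδ, mul_inv_eq_one]
    exact hy _ hn
  obtain ⟨W, iW, fW, χ, hW, hbnd, hodd, hquad⟩ := exists_module hU _ hYb ψ AL M hMinv hpos C hCfix E hEM hCE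
  letI := iW
  haveI := fW
  have hidxC : C.index = ((fix φ A).subgroupOf Y).index := by
    rw [hC, Subgroup.index_map, QuotientGroup.ker_mk', MonoidHom.range_eq_top.mpr (QuotientGroup.mk'_surjective _),
      Subgroup.index_top, mul_one, sup_eq_left.mpr]
    exact fun y hy a ha => hy a (hALle ha)
  have hker : δ.ker = ((stab φ Y).comap L.subtype).subgroupOf ψ.ker := by
    ext n
    constructor
    · intro h v hv
      have h' := congrArg Subtype.val (DFunLike.congr_fun (MonoidHom.mem_ker.mp h) (QuotientGroup.mk ⟨v, hv⟩))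
      rw [hδ] at h'
      exact mul_inv_eq_one.mp h'
    · intro h
      refine MonoidHom.mem_ker.mpr (MonoidHom.ext fun q => QuotientGroup.induction_on q fun y => Subtype.ext ?_)
      rw [hδ, show φ ((n : L) : G) (y : V) = y from h y y.2, mul_inv_cancel]
      rfl
  have hcardE : Nat.card E * Nat.card ↥(A ⊓ stab φ Y) = Nat.card ↥(AL ⊓ ψ.ker) := by
    have hk : Nat.card E * Nat.card ↥(δ.ker ⊓ AN) = Nat.card AN := by
      rw [hE, ← Subgroup.relIndex_ker, ← Subgroup.inf_relIndex_right]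
      have h := Subgroup.relIndex_mul_relIndex (⊥ : Subgroup ψ.ker) (δ.ker ⊓ AN) AN bot_le inf_le_right
      rw [Subgroup.relIndex_bot_left, Subgroup.relIndex_bot_left] at h
      rw [← h, mul_comm]
    rw [← Nat.card_congr (Subgroup.subgroupOfEquivOfLe (inf_le_right : AL ⊓ ψ.ker ≤ ψ.ker)).toEquiv,
      Subgroup.inf_subgroupOf_right, ← hAN', ← hk]
    congr 1
    have hmap : (δ.ker ⊓ AN).map (L.subtype.comp ψ.ker.subtype) = A ⊓ stab φ Y := by
      ext g
      constructor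
      · rintro ⟨n, ⟨hn1, hn2⟩, rfl⟩
        rw [hker] at hn1
        exact ⟨hn2, hn1⟩
      · rintro ⟨hgA, hgY⟩
        have hgker : (⟨g, hALle hgA⟩ : L) ∈ ψ.ker :=
          MonoidHom.mem_ker.mpr (MulEquiv.ext fun q => QuotientGroup.induction_on q fun y =>
            congrArg QuotientGroup.mk (Subtype.ext (hgY y y.2) : χY ⟨g, hALle hgA⟩ y = y))
        refine ⟨⟨_, hgker⟩, ⟨?_, hgA⟩, rfl⟩
        rw [hker]; exact hgY
    rw [← hmap, Subgroup.card_map_of_injective (f := L.subtype.comp ψ.ker.subtype) fun a b h => Subtype.ext (Subtype.ext h)]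
  have hrelA : ψ.ker.relIndex AL * Nat.card ↥(AL ⊓ ψ.ker) = Nat.card A := by
    rw [← Subgroup.inf_relIndex_right, inf_comm]
    have h := Subgroup.relIndex_mul_relIndex (⊥ : Subgroup L) (AL ⊓ ψ.ker) AL bot_le inf_le_left
    rw [Subgroup.relIndex_bot_left, Subgroup.relIndex_bot_left,
      Nat.card_congr (Subgroup.subgroupOfEquivOfLe hALle).toEquiv] at h
    rw [← h, mul_comm]
  have hineq := Best.card_mul_le hA.best Y
  have hFY : Nat.card ↥(fix φ A ⊓ Y) = Nat.card ↥((fix φ A).subgroupOf Y) := by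
    rw [← Subgroup.inf_subgroupOf_right]
    exact (Nat.card_congr (Subgroup.subgroupOfEquivOfLe inf_le_right).toEquiv).symm
  have hCle : C.index ≤ ψ.ker.relIndex AL * Nat.card E := by
    refine Nat.le_of_mul_le_mul_right (c := Nat.card ↥(A ⊓ stab φ Y) * Nat.card ↥((fix φ A).subgroupOf Y)) ?_
      (Nat.mul_pos Nat.card_pos Nat.card_pos)
    rw [hidxC]
    calc ((fix φ A).subgroupOf Y).index * (Nat.card ↥(A ⊓ stab φ Y) * Nat.card ↥((fix φ A).subgroupOf Y))
        = Nat.card Y * Nat.card ↥(A ⊓ stab φ Y) := by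
          rw [← ((fix φ A).subgroupOf Y).index_mul_card]; ring
      _ ≤ Nat.card A * Nat.card ↥((fix φ A).subgroupOf Y) := hFY ▸ hineq
      _ = _ := by rw [← hrelA, ← hcardE]; ring
  -- the final count
  have hidxW : (fix χ AL).index ≤ ψ.ker.relIndex AL := by
    have hp : 2 ^ dl (⊤ : Subgroup W) * 2 ^ dl E * 2 ^ dl C ≤
        2 ^ dl (⊤ : Subgroup (Y ⧸ W₀.subgroupOf Y)) * 2 ^ dl (fix χ AL) := by
      rw [← pow_add, ← pow_add, ← pow_add]
      exact Nat.pow_le_pow_right two_pos hbnd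
    rw [← card_eq_pow hW, ← card_eq_pow hU.hom, ← card_eq_pow hYb, ← card_eq_pow hYb, ← card_eq_pow hW,
      Subgroup.card_top, Subgroup.card_top, ← (fix χ AL).index_mul_card, ← C.index_mul_card] at hp
    refine Nat.le_of_mul_le_mul_right (c := Nat.card (fix χ AL) * Nat.card E * Nat.card C) ?_
      (Nat.mul_pos (Nat.mul_pos Nat.card_pos Nat.card_pos) Nat.card_pos)
    calc (fix χ AL).index * (Nat.card (fix χ AL) * Nat.card E * Nat.card C)
        = (fix χ AL).index * Nat.card (fix χ AL) * Nat.card E * Nat.card C := by ring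
      _ ≤ C.index * Nat.card C * Nat.card (fix χ AL) := hp
      _ ≤ ψ.ker.relIndex AL * Nat.card E * Nat.card C * Nat.card (fix χ AL) :=
          Nat.mul_le_mul_right _ (Nat.mul_le_mul_right _ hCle)
      _ = _ := by ring
  obtain ⟨S, hSn, hSpow, hScase⟩ := exists_normal_small
    (k.small.irrFree L (noS3_subgroup k.noS3 L) (Pick.card_lt k.proper)) W hW χ AL (hquad hqψ)
  have hSP : S ≤ P := by
    haveI := hSn
    haveI : (S.map ψ.rangeRestrict).Normal := hSn.map _ ψ.rangeRestrict_surjective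
    refine Subgroup.map_le_iff_le_comap.mp (CfsgLib.Solvable.Cores.le_pCore (p := 2) ?_)
    rintro ⟨_, x, hx, rfl⟩
    obtain ⟨m, hm⟩ := CfsgLib.Fusion.Basic.exists_pow_coprime (p := 2) x
    obtain ⟨j, hj⟩ := hSpow _ (S.pow_mem hx (2 ^ m))
    have hodd' : Odd (orderOf (x ^ 2 ^ m)) := Nat.Coprime.odd_of_right hm
    have h1 : χ (x ^ 2 ^ m) = 1 := by
      rw [← orderOf_eq_one_iff]
      refine Nat.eq_one_of_dvd_coprimes (hm.pow_right j) (orderOf_map_dvd χ _) ?_
      exact orderOf_dvd_of_pow_eq_one (by rw [← map_pow]; exact hj)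
    refine ⟨m, Subtype.ext ?_⟩
    show (ψ.rangeRestrict x) ^ 2 ^ m = 1
    rw [← map_pow]
    exact Subtype.ext (hodd _ hodd' h1)
  have hAS : AL ⊓ S ≤ ψ.ker := (inf_le_inf_left AL hSP).trans hAP
  rcases hScase with h | h
  · exact hAN (fun x hx => hAS ⟨hx, h hx⟩)
  · refine absurd (h.trans_le hidxW) (not_lt.mpr ?_)
    rw [← Subgroup.inf_relIndex_right ψ.ker, ← Subgroup.inf_relIndex_right S, inf_comm _ AL, inf_comm _ AL]
    exact Subgroup.relIndex_le_of_le_left (le_inf inf_le_left hAS) Subgroup.index_ne_zero_of_finite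

end CfsgLib.Fusion.SFreeFF
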