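import Cfsg.Agent.Lib.Fusion.SFreeFF.Unique
import Cfsg.Agent.Lib.Fusion.SFreeFF.Local

/-!
A group with trivial 2-core and no section `S₃` has no quadratic offender on a faithful elementary abelian
2-group.
-/

set_option autoImplicit false
set_option linter.unusedSectionVars false
set_option linter.style.haveILetI false

namespace CfsgLib.Fusion.SFreeFF

open CfsgLib.Fusion.CentralOffender

universe u

theorem no_offender_of_irred {V : Type u} [CommGroup V] [Finite V] {G : Type u} [Group G] [Finite G]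
    {φ : G →* MulAut V} (IH : NF.{u} (Nat.card G)) (hinj : Function.Injective φ) (h2 : Exp2 V)
    (hirr : Irred φ) (hG : NoS3 G) {A : Subgroup G} (hne : A ≠ ⊥) (hq : Quad φ A) :
    wt φ A < Nat.card V := by
  by_contra hw
  obtain ⟨B, hB⟩ := exists_BQ hne hq (not_lt.mp hw)
  obtain ⟨T, hT, hBT⟩ := exists_sylIn (le_top : B ≤ ⊤) (hB.isPGroup hinj h2)
  have hJ : J φ T ≠ ⊥ := fun h => hB.ne (le_bot_iff.mp (h ▸ hB.le_J hBT))
  have c : Ctx φ T := ⟨hinj, h2, hG, hirr, IH, hT, hJ⟩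
  have hD2 : IsPGroup 2 (J φ T) := hT.pgroup.to_le (J_le φ T)
  have hV : Nat.card V ≠ 1 := fun h => by
    haveI := (Nat.card_eq_one_iff_unique.1 h).1
    exact hne ((Subgroup.eq_bot_iff_forall _).mpr fun x _ =>
      hinj (MulEquiv.ext fun v => Subsingleton.elim _ _))
  have hN : ∀ g ∈ Subgroup.normalizer (J φ T : Set G), ∀ u ∈ fix φ (J φ T), φ g u ∈ fix φ (J φ T) := by
    intro g hg u hu
    rw [← mem_normalizer_iff_cj.mp hg, cj, fix_map]
    exact ⟨u, hu, rfl⟩
  -- a minimal submodule of the fixed points of `J`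
  obtain ⟨Z, ⟨hZle, hZne, hZinv⟩, hmin⟩ := Set.exists_min_image
    {U : Subgroup V | U ≤ fix φ (J φ T) ∧ U ≠ ⊥ ∧
      ∀ g ∈ Subgroup.normalizer (J φ T : Set G), ∀ u ∈ U, φ g u ∈ U}
    (fun U => Nat.card U) (Set.toFinite _) ⟨_, le_rfl, exists_fixed (φ := φ) hD2 h2 hV, hN⟩
  have hne_top : setStab φ Z ≠ ⊤ := fun htop => by
    have hZtop := (hirr Z fun g u hu => (htop.symm ▸ Subgroup.mem_top g : g ∈ setStab φ Z) u hu).resolve_left hZne
    refine hJ ((Subgroup.eq_bot_iff_forall _).mpr fun x hx => hinj (MulEquiv.ext fun v => ?_))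
    rw [apply_one]
    exact hZle (hZtop.symm ▸ Subgroup.mem_top v) x hx
  have hnle : Subgroup.normalizer (J φ T : Set G) ≤ setStab φ Z := fun g hg u hu => hZinv g hg u hu
  have hirrZ : ∀ U ≤ Z, U ≠ ⊥ → (∀ g ∈ setStab φ Z, ∀ u ∈ U, φ g u ∈ U) → U = Z := fun U hU hUne hUinv =>
    Subgroup.eq_of_le_of_card_ge hU (hmin U ⟨hU.trans hZle, hUne, fun g hg => hUinv g (hnle hg)⟩)
  by_cases hcov : ∀ L : Subgroup G, L ≠ ⊤ → J φ T ≤ L → L ≤ setStab φ Z
  · exact Cover.false c ⟨hne_top, hnle, hcov⟩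
  push Not at hcov
  obtain ⟨L₀, hL₀, hJL₀, hmov⟩ := hcov
  obtain ⟨L, ⟨hL, hJL, hLmov⟩, hLmin⟩ := Set.exists_min_image
    {L : Subgroup G | L ≠ ⊤ ∧ J φ T ≤ L ∧ ¬ L ≤ setStab φ Z} (fun L => Nat.card L) (Set.toFinite _)
    ⟨L₀, hL₀, hJL₀, hmov⟩
  obtain ⟨TL, hTL, hJTL⟩ := exists_sylIn hJL hD2
  refine Pick.false (φ := φ) (T := T) (Z := Z) (L := L) (TL := TL)
    ⟨hinj, h2, hG, IH, hT, hZle, hne_top, hnle, hirrZ, hL, hJL, hLmov, fun L' hle hJ' hne' => ?_, hTL, hJTL⟩
  by_contra hnot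
  exact hne' (Subgroup.eq_of_le_of_card_ge hle (hLmin L'
    ⟨fun h => hL (top_le_iff.mp (h ▸ hle)), hJ', hnot⟩))

/-- The theorem for every order. -/
theorem nf_all (n : ℕ) : NF.{u} n := by
  induction n with
  | zero => intro V _ _ H _ _ φ h; omega
  | succ k ih =>
    intro V _ _ H _ _ φ hk hinj h2 hcore hG A hne hq
    rcases Nat.lt_succ_iff_lt_or_eq.1 hk with h' | h'
    · exact ih V H φ h' hinj h2 hcore hG A hne hq
    subst h'
    have hirrfree : IrrFree H := by
      intro W _ _ ψ hW hirr B hBq hB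
      haveI := finite_mulAut W
      by_cases hψ : Function.Injective ψ
      · have hker : ψ.ker = ⊥ := (MonoidHom.ker_eq_bot_iff ψ).mpr hψ
        have hBne : B ≠ ⊥ := fun h => hB (h ▸ bot_le)
        have h := no_offender_of_irred ih hψ hW hirr hG hBne hBq
        rw [wt, ← (fix ψ B).index_mul_card] at h
        rw [hker, Subgroup.relIndex_bot_left]
        exact Nat.lt_of_mul_lt_mul_right h
      · refine ih.irr hG hW hirr (lt_of_le_of_ne
          (Nat.card_le_card_of_surjective _ ψ.rangeRestrict_surjective) fun he => hψ ?_) hBq hB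
        exact MonoidHom.rangeRestrict_injective_iff.mp
          ((Nat.bijective_iff_surjective_and_card _).mpr ⟨ψ.rangeRestrict_surjective, he.symm⟩).1
    obtain ⟨S, hSn, hSpow, hcase⟩ := exists_normal_small hirrfree V h2 φ A hq
    haveI := hSn
    have hS : S = ⊥ := le_bot_iff.mp (hcore ▸ CfsgLib.Solvable.Cores.le_pCore (p := 2) fun x => by
      obtain ⟨j, hj⟩ := hSpow _ x.2
      exact ⟨j, Subtype.ext (hinj (hj.trans (map_one φ).symm))⟩)
    subst hS
    rcases hcase with h | h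
    · exact absurd (le_bot_iff.mp h) hne
    · rw [Subgroup.relIndex_bot_left] at h
      rw [wt, ← (fix φ A).index_mul_card]
      exact Nat.mul_lt_mul_of_pos_right h Nat.card_pos

/-- No quadratic offender. -/
theorem no_offender {V G : Type u} [CommGroup V] [Finite V] [Group G] [Finite G] (φ : G →* MulAut V)
    (hinj : Function.Injective φ) (h2 : ∀ v : V, v * v = 1) (hcore : Cfsg.pCore 2 G = ⊥) (hG : NoS3 G)
    {A : Subgroup G} (hne : A ≠ ⊥) (hq : Quad φ A) : wt φ A < Nat.card V :=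
  nf_all (Nat.card G + 1) V G φ (Nat.lt_succ_self _) hinj h2 hcore hG A hne hq

end CfsgLib.Fusion.SFreeFF
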