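import Cfsg.Agent.Lib.Fusion.SFreeFF.Factor
import Mathlib.GroupTheory.Sylow

/-!
Best quadratic subgroups, the subgroup they generate inside a 2-group and its weak closure.
-/

set_option autoImplicit false
set_option linter.unusedSectionVars false
set_option linter.style.haveILetI false

namespace CfsgLib.Fusion.SFreeFF

open CfsgLib.Fusion.CentralOffender

universe u

section Conj

variable {G : Type*} [Group G]

/-- The conjugate of a subgroup. -/
def cj (H : Subgroup G) (g : G) : Subgroup G := H.map (MulAut.conj g).toMonoidHom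

theorem mem_cj {H : Subgroup G} {g x : G} : x ∈ cj H g ↔ g⁻¹ * x * g ∈ H := by
  constructor
  · rintro ⟨h, hh, rfl⟩
    show g⁻¹ * (g * h * g⁻¹) * g ∈ H
    rwa [show g⁻¹ * (g * h * g⁻¹) * g = h by group]
  · exact fun h => ⟨_, h, show g * (g⁻¹ * x * g) * g⁻¹ = x by group⟩

theorem conj_mem_cj {H : Subgroup G} {g x : G} (hx : x ∈ H) : g * x * g⁻¹ ∈ cj H g := ⟨x, hx, rfl⟩

theorem cj_cj (H : Subgroup G) (g h : G) : cj (cj H g) h = cj H (h * g) := by
  ext x
  simp only [mem_cj, mul_inv_rev, mul_assoc]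

theorem cj_one (H : Subgroup G) : cj H 1 = H := by ext x; simp [mem_cj]

theorem cj_mono {H K : Subgroup G} (h : H ≤ K) (g : G) : cj H g ≤ cj K g := Subgroup.map_mono h

theorem cj_inf (H K : Subgroup G) (g : G) : cj (H ⊓ K) g = cj H g ⊓ cj K g :=
  Subgroup.map_inf H K _ (MulAut.conj g).injective

theorem card_cj (H : Subgroup G) (g : G) : Nat.card (cj H g) = Nat.card H :=
  Subgroup.card_map_of_injective (MulAut.conj g).injective

theorem cj_isPGroup {H : Subgroup G} (h : IsPGroup 2 H) (g : G) : IsPGroup 2 (cj H g) := h.map _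

theorem cj_normalizer (H : Subgroup G) (g : G) :
    cj (Subgroup.normalizer (H : Set G)) g = Subgroup.normalizer (cj H g : Set G) :=
  Subgroup.map_equiv_normalizer_eq H (MulAut.conj g)

theorem mem_normalizer_iff_cj [Finite G] {H : Subgroup G} {g : G} :
    g ∈ Subgroup.normalizer (H : Set G) ↔ cj H g = H := by
  constructor
  · intro hg
    refine Subgroup.eq_of_le_of_card_ge (fun x hx => ?_) (card_cj H g).ge
    obtain ⟨h, hh, rfl⟩ := hx
    exact (Subgroup.mem_normalizer_iff.mp hg h).mp hh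
  · intro hg
    refine Subgroup.mem_normalizer_iff.mpr fun h => ⟨fun hh => ?_, fun hh => ?_⟩
    · exact hg.le (conj_mem_cj hh)
    · have := mem_cj.mp (hg.ge hh)
      rwa [show g⁻¹ * (g * h * g⁻¹) * g = h by group] at this

theorem cj_eq_self_of_mem [Finite G] {H : Subgroup G} {g : G} (hg : g ∈ H) : cj H g = H :=
  mem_normalizer_iff_cj.mp (Subgroup.le_normalizer hg)

/-- A Sylow 2-subgroup of a subgroup. -/
structure SylIn (T L : Subgroup G) : Prop where
  le : T ≤ L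
  pgroup : IsPGroup 2 T
  max : ∀ Q ≤ L, IsPGroup 2 Q → T ≤ Q → Q = T

theorem exists_sylIn {L Q : Subgroup G} (hQL : Q ≤ L) (hQ : IsPGroup 2 Q) : ∃ T, SylIn T L ∧ Q ≤ T := by
  obtain ⟨S, hS⟩ := (hQ.comap_subtype (K := L) : IsPGroup 2 (Q.subgroupOf L)).exists_le_sylow
  refine ⟨(S : Subgroup L).map L.subtype, ⟨Subgroup.map_subtype_le _, S.2.map _, fun R hR hR2 hle => ?_⟩, ?_⟩
  · have h : R.subgroupOf L = S := S.3 (hR2.comap_subtype) fun x hx => hle ⟨x, hx, rfl⟩
    rw [← h, Subgroup.map_subgroupOf_eq_of_le hR]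
  · exact fun x hx => ⟨⟨x, hQL hx⟩, hS hx, rfl⟩

theorem exists_sylIn_top [Finite G] : ∃ T : Subgroup G, SylIn T ⊤ := by
  obtain ⟨T, hT, -⟩ := exists_sylIn (bot_le : (⊥ : Subgroup G) ≤ ⊤) IsPGroup.of_bot
  exact ⟨T, hT⟩

theorem SylIn.conj [Finite G] {T T' L : Subgroup G} (h : SylIn T L) (h' : SylIn T' L) :
    ∃ l ∈ L, cj T l = T' := by
  haveI : Fact (Nat.Prime 2) := ⟨Nat.prime_two⟩
  have hmk : ∀ {T : Subgroup G}, SylIn T L → ∃ S : Sylow 2 L, (S : Subgroup L) = T.subgroupOf L := by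
    intro T hT
    refine ⟨⟨T.subgroupOf L, hT.pgroup.comap_subtype, fun {Q} hQ hle => ?_⟩, rfl⟩
    have h1 := hT.max (Q.map L.subtype) (Subgroup.map_subtype_le Q) (hQ.map _)
      fun x hx => ⟨⟨x, hT.le hx⟩, hle hx, rfl⟩
    rw [Subgroup.subgroupOf, ← h1, Subgroup.comap_map_eq_self_of_injective L.subtype_injective]
  obtain ⟨S, hS⟩ := hmk h
  obtain ⟨S', hS'⟩ := hmk h'
  obtain ⟨l, hl⟩ := MulAction.exists_smul_eq L S S'
  refine ⟨l, l.2, ?_⟩
  have e : (S : Subgroup L).map (MulAut.conj l).toMonoidHom = S' := congrArg Sylow.toSubgroup hl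
  rw [hS, hS'] at e
  have e2 := congrArg (Subgroup.map L.subtype) e
  rw [Subgroup.map_map, show L.subtype.comp (MulAut.conj l).toMonoidHom =
    (MulAut.conj (l : G)).toMonoidHom.comp L.subtype from MonoidHom.ext fun x => rfl,
    ← Subgroup.map_map, Subgroup.map_subgroupOf_eq_of_le h.le, Subgroup.map_subgroupOf_eq_of_le h'.le] at e2
  exact e2

theorem SylIn.exists_conj_le [Finite G] {T L Q : Subgroup G} (h : SylIn T L) (hQL : Q ≤ L) (hQ : IsPGroup 2 Q) :
    ∃ l ∈ L, Q ≤ cj T l := by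
  obtain ⟨T', hT', hle⟩ := exists_sylIn hQL hQ
  obtain ⟨l, hl, rfl⟩ := h.conj hT'
  exact ⟨l, hl, hle⟩

theorem SylIn.cj {T L : Subgroup G} (h : SylIn T L) (g : G) :
    SylIn (SFreeFF.cj T g) (SFreeFF.cj L g) where
  le := cj_mono h.le g
  pgroup := cj_isPGroup h.pgroup g
  max Q hQ hQ2 hle := by
    have h1 := h.max (SFreeFF.cj Q g⁻¹) ((cj_mono hQ g⁻¹).trans (by rw [cj_cj, inv_mul_cancel, cj_one]))
      (cj_isPGroup hQ2 _) (le_trans (by rw [cj_cj, inv_mul_cancel, cj_one]) (cj_mono hle g⁻¹))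
    rw [← h1, cj_cj, mul_inv_cancel, cj_one]

/-- The trace on a normalised subgroup. -/
theorem SylIn.inf [Finite G] {T L N : Subgroup G} (h : SylIn T L) (hNL : N ≤ L)
    (hn : L ≤ Subgroup.normalizer (N : Set G)) : SylIn (T ⊓ N) N where
  le := inf_le_right
  pgroup := h.pgroup.to_le inf_le_left
  max Q hQ hQ2 hle := by
    obtain ⟨l, hl, hQl⟩ := h.exists_conj_le (hQ.trans hNL) hQ2
    refine (Subgroup.eq_of_le_of_card_ge hle ?_).symm
    rw [← card_cj (T ⊓ N) l]
    refine Subgroup.card_le_of_le (le_trans (le_inf hQl hQ) ?_)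
    rw [cj_inf, mem_normalizer_iff_cj.mp (hn hl)]

/-- The Frattini argument. -/
theorem frattini [Finite G] {T L N : Subgroup G} (h : SylIn T L) (hNL : N ≤ L)
    (hn : L ≤ Subgroup.normalizer (N : Set G)) :
    L ≤ N ⊔ (L ⊓ Subgroup.normalizer ((T ⊓ N : Subgroup G) : Set G)) := by
  intro l hl
  have h' := (h.inf hNL hn).cj l
  rw [mem_normalizer_iff_cj.mp (hn hl)] at h'
  obtain ⟨x, hx, he⟩ := (h.inf hNL hn).conj h'
  have : x⁻¹ * l ∈ L ⊓ Subgroup.normalizer ((T ⊓ N : Subgroup G) : Set G) := by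
    refine Subgroup.mem_inf.mpr ⟨L.mul_mem (L.inv_mem (hNL hx)) hl, mem_normalizer_iff_cj.mpr ?_⟩
    rw [← cj_cj, ← he, cj_cj, inv_mul_cancel, cj_one]
  simpa using mul_mem (Subgroup.mem_sup_left hx) (Subgroup.mem_sup_right this)

/-- A Sylow 2-subgroup covers a 2-group image. -/
theorem SylIn.map_eq [Finite G] {H : Type*} [Group H] {T P : Subgroup G} (h : SylIn T P) (f : G →* H)
    (hf : IsPGroup 2 (P.map f)) : T.map f = P.map f := by
  haveI : Fact (Nat.Prime 2) := ⟨Nat.prime_two⟩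
  refine le_antisymm (Subgroup.map_mono h.le) ?_
  rintro _ ⟨x, hx, rfl⟩
  obtain ⟨S, hS⟩ := (h.pgroup.comap_subtype (K := P) : IsPGroup 2 (T.subgroupOf P)).exists_le_sylow
  have hST : (S : Subgroup P) = T.subgroupOf P := by
    have h1 := h.max ((S : Subgroup P).map P.subtype) (Subgroup.map_subtype_le _) (S.2.map _)
      fun y hy => ⟨⟨y, h.le hy⟩, hS hy, rfl⟩
    rw [Subgroup.subgroupOf, ← h1, Subgroup.comap_map_eq_self_of_injective P.subtype_injective]
  have hsurj : Function.Surjective (f.subgroupMap P) := f.subgroupMap_surjective P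
  have htop : (S : Subgroup P).map (f.subgroupMap P) = ⊤ := by
    rw [← Sylow.coe_mapSurjective hsurj S]
    exact ((S.mapSurjective hsurj).3 (hf.to_subgroup ⊤) le_top).symm
  obtain ⟨t, ht, he⟩ := (htop.symm ▸ Subgroup.mem_top (⟨f x, Subgroup.mem_map_of_mem f hx⟩ : P.map f) :
    (⟨f x, Subgroup.mem_map_of_mem f hx⟩ : P.map f) ∈ (S : Subgroup P).map (f.subgroupMap P))
  exact ⟨t, (hST ▸ ht : t ∈ T.subgroupOf P), congrArg Subtype.val he⟩

end Conj

variable {V : Type u} [CommGroup V] {G : Type u} [Group G] (φ : G →* MulAut V)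

/-- A best quadratic subgroup. -/
structure BQ (A : Subgroup G) : Prop where
  ne : A ≠ ⊥
  quad : Quad φ A
  best : Best φ A

/-- The pointwise stabiliser. -/
def stab (U : Subgroup V) : Subgroup G where
  carrier := {g | ∀ u ∈ U, φ g u = u}
  one_mem' := fun u _ => apply_one φ u
  mul_mem' := fun {a b} ha hb u hu => by rw [apply_mul, hb u hu, ha u hu]
  inv_mem' := fun {a} ha u hu => by
    have h := ha u hu
    conv_lhs => rw [← h, apply_inv]

/-- The subgroup generated by the best quadratic subgroups inside `T`. -/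
def J (T : Subgroup G) : Subgroup G := sSup {A | A ≤ T ∧ BQ φ A}

theorem J_le (T : Subgroup G) : J φ T ≤ T := sSup_le fun _ h => h.1

theorem J_mono {P T : Subgroup G} (h : P ≤ T) : J φ P ≤ J φ T :=
  sSup_le fun _ hA => le_sSup ⟨hA.1.trans h, hA.2⟩

variable {φ}

theorem BQ.le_J {A T : Subgroup G} (hA : BQ φ A) (h : A ≤ T) : A ≤ J φ T := le_sSup ⟨h, hA⟩

theorem BQ.isPGroup (hinj : Function.Injective φ) (h2 : Exp2 V) {A : Subgroup G} (hA : BQ φ A) :
    IsPGroup 2 A :=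
  fun a => ⟨1, Subtype.ext (hinj (MulEquiv.ext fun v => by
    show φ ((a : G) ^ 2 ^ 1) v = φ 1 v
    rw [pow_one, pow_two, quad_sq φ h2 hA.quad a.2, apply_one]))⟩

variable [Finite V]

theorem BQ.cj {A : Subgroup G} (hA : BQ φ A) (g : G) : BQ φ (cj A g) :=
  ⟨fun h => hA.ne ((Subgroup.map_eq_bot_iff_of_injective A (MulAut.conj g).injective).mp h),
    quad_map φ hA.quad g, best_map φ hA.best g⟩

theorem cj_J_le (T : Subgroup G) (g : G) : cj (J φ T) g ≤ J φ (cj T g) := by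
  rw [cj, Subgroup.map_le_iff_le_comap]
  refine sSup_le fun A hA => ?_
  rw [← Subgroup.map_le_iff_le_comap]
  exact (hA.2.cj g).le_J (cj_mono hA.1 g)

theorem cj_J (T : Subgroup G) (g : G) : cj (J φ T) g = J φ (cj T g) := by
  refine le_antisymm (cj_J_le T g) ?_
  have h := cj_mono (cj_J_le (φ := φ) (cj T g) g⁻¹) g
  simp only [cj_cj, mul_inv_cancel, inv_mul_cancel, cj_one] at h
  exact h

variable [Finite G]

theorem normalizer_le_J (T : Subgroup G) :
    Subgroup.normalizer (T : Set G) ≤ Subgroup.normalizer (J φ T : Set G) :=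
  fun g hg => mem_normalizer_iff_cj.mpr (by rw [cj_J, mem_normalizer_iff_cj.mp hg])

/-- Weak closure. -/
theorem J_eq {T P : Subgroup G} (hT : SylIn T ⊤) (hP : IsPGroup 2 P) (h : J φ T ≤ P) : J φ P = J φ T := by
  have h1 : J φ T ≤ J φ P := sSup_le fun A hA => hA.2.le_J ((hA.2.le_J hA.1).trans h)
  refine (Subgroup.eq_of_le_of_card_ge h1 ?_).symm
  obtain ⟨g, -, hg⟩ := hT.exists_conj_le le_top hP
  rw [← card_cj (J φ T) g, cj_J]
  exact Subgroup.card_le_of_le (J_mono φ hg)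

theorem le_normalizer_J {T P : Subgroup G} (hT : SylIn T ⊤) (hP : IsPGroup 2 P) (h : J φ T ≤ P) :
    P ≤ Subgroup.normalizer (J φ T : Set G) := fun x hx => by
  rw [← J_eq hT hP h]
  exact normalizer_le_J P (Subgroup.le_normalizer hx)

/-- The inequality of a best subgroup on any subgroup of the module. -/
theorem Best.card_mul_le {A : Subgroup G} (hA : Best φ A) (U : Subgroup V) :
    Nat.card U * Nat.card ↥(A ⊓ stab φ U) ≤ Nat.card A * Nat.card ↥(fix φ A ⊓ U) := by
  set B := A ⊓ stab φ U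
  have h1 : fix φ A ⊔ U ≤ fix φ B := sup_le (fix_anti φ inf_le_left) fun u hu b hb => hb.2 u hu
  have h2 := hA B inf_le_left
  have h3 := card_sup_mul_inf (fix φ A) U
  refine Nat.le_of_mul_le_mul_right ?_ (Nat.card_pos (α := fix φ A))
  calc Nat.card U * Nat.card B * Nat.card (fix φ A) = Nat.card B * (Nat.card (fix φ A) * Nat.card U) := by ring
    _ = Nat.card B * Nat.card ↥(fix φ A ⊔ U) * Nat.card ↥(fix φ A ⊓ U) := by rw [← h3, mul_assoc]
    _ ≤ wt φ B * Nat.card ↥(fix φ A ⊓ U) :=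
        Nat.mul_le_mul_right _ (Nat.mul_le_mul_left _ (Subgroup.card_le_of_le h1))
    _ ≤ wt φ A * Nat.card ↥(fix φ A ⊓ U) := Nat.mul_le_mul_right _ h2
    _ = _ := by rw [wt]; ring

/-- A quadratic offender contains a best quadratic subgroup. -/
theorem exists_BQ {A : Subgroup G} (hne : A ≠ ⊥) (hq : Quad φ A) (hw : Nat.card V ≤ wt φ A) :
    ∃ B, BQ φ B := by
  obtain ⟨B, ⟨hBA, hB0⟩, hmax⟩ := Set.exists_max_image {B : Subgroup G | B ≤ A ∧ B ≠ ⊥} (wt φ)
    (Set.toFinite _) ⟨A, le_rfl, hne⟩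
  refine ⟨B, hB0, fun e he f hf => hq e (hBA he) f (hBA hf), fun C hC => ?_⟩
  by_cases h : C = ⊥
  · rw [h, wt_bot]; exact hw.trans (hmax A ⟨le_rfl, hne⟩)
  · exact hmax C ⟨hC.trans hBA, h⟩

theorem fix_top_eq_bot (hinj : Function.Injective φ) (hirr : Irred φ) (hG1 : ∃ x : G, x ≠ 1) :
    fix φ ⊤ = ⊥ := by
  refine (hirr _ fun g u hu => by rw [hu g trivial]; exact hu).resolve_right fun h => ?_
  obtain ⟨x, hx⟩ := hG1
  exact hx (hinj (MulEquiv.ext fun v => by
    rw [apply_one]; exact (h.symm ▸ Subgroup.mem_top v : v ∈ fix φ ⊤) x trivial))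

/-- A faithful irreducible group has no nontrivial normal 2-subgroup. -/
theorem eq_bot_of_normal_two (hinj : Function.Injective φ) (h2 : Exp2 V) (hirr : Irred φ) {Q : Subgroup G}
    (hQ : IsPGroup 2 Q) (hn : Subgroup.normalizer (Q : Set G) = ⊤) : Q = ⊥ := by
  have hU : ∀ g, ∀ u ∈ fix φ Q, φ g u ∈ fix φ Q := fun g u hu q hq => by
    rw [← apply_mul, show q * g = g * (g⁻¹ * q * g) by group, apply_mul]
    refine congrArg _ (hu _ ?_)
    have := (Subgroup.mem_normalizer_iff.mp (hn.symm ▸ Subgroup.mem_top g⁻¹ :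
      g⁻¹ ∈ Subgroup.normalizer (Q : Set G)) q).mp hq
    rwa [inv_inv] at this
  refine (Subgroup.eq_bot_iff_forall _).mpr fun q hq => hinj (MulEquiv.ext fun v => ?_)
  rw [apply_one]
  by_cases hV : Nat.card V = 1
  · haveI := (Nat.card_eq_one_iff_unique.1 hV).1
    exact Subsingleton.elim _ _
  · exact ((hirr _ hU).resolve_left (exists_fixed (φ := φ) hQ h2 hV)).symm ▸ Subgroup.mem_top v
      |> fun h : v ∈ fix φ Q => h q hq

theorem mem_fix_zpowers {b : G} {v : V} : v ∈ fix φ (Subgroup.zpowers b) ↔ φ b v = v :=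
  ⟨fun h => h b (Subgroup.mem_zpowers b), fun h e he =>
    (Subgroup.zpowers_le.2 (show b ∈ (MulAction.stabilizer (MulAut V) v).comap φ from h) he : φ e v = v)⟩

theorem stab_fix_cj (T : Subgroup G) (g : G) : stab φ (fix φ (cj T g)) ≤ cj (stab φ (fix φ T)) g := by
  intro x hx
  refine mem_cj.mpr fun u hu => ?_
  have h := hx (φ g u) (by rw [cj, fix_map]; exact ⟨u, hu, rfl⟩)
  rw [apply_mul, apply_mul, h, apply_inv]

theorem SylIn.subgroupOf {G : Type*} [Group G] {T L : Subgroup G} (h : SylIn T L) :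
    SylIn (T.subgroupOf L) ⊤ where
  le := le_top
  pgroup := h.pgroup.comap_subtype
  max Q _ hQ2 hle := by
    have h1 := h.max (Q.map L.subtype) (Subgroup.map_subtype_le Q) (hQ2.map _)
      fun y hy => ⟨⟨y, h.le hy⟩, hle hy, rfl⟩
    rw [Subgroup.subgroupOf, ← h1, Subgroup.comap_map_eq_self_of_injective L.subtype_injective]

theorem lt_inf_normalizer {T U : Subgroup G} (hT : IsPGroup 2 T) (hlt : U < T) :
    U < T ⊓ Subgroup.normalizer (U : Set G) := by
  haveI : Fact (Nat.Prime 2) := ⟨Nat.prime_two⟩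
  haveI := hT.isNilpotent
  have hne : U.subgroupOf T < ⊤ := lt_top_iff_ne_top.mpr fun h => hlt.ne
    (le_antisymm hlt.le (Subgroup.subgroupOf_eq_top.mp h))
  obtain ⟨x, hx, hxU⟩ := SetLike.exists_of_lt (Group.normalizerCondition_of_isNilpotent _ hne)
  refine lt_of_le_of_ne (le_inf hlt.le Subgroup.le_normalizer) fun h => hxU ?_
  show (x : G) ∈ U
  rw [h]
  refine Subgroup.mem_inf.mpr ⟨x.2, ?_⟩
  rw [← Subgroup.mem_subgroupOf, Subgroup.subgroupOf_normalizer_eq hlt.le]
  exact hx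

/-- A proper subgroup is covered by the stabiliser of the fixed points of its Sylow subgroup and the normaliser
of `J`. -/
theorem local_le {n : ℕ} (IH : NF.{u} n) (h2 : Exp2 V) (hG : NoS3 G) {L T : Subgroup G}
    (hn : Nat.card L < n) (hT : SylIn T L) :
    L ≤ (L ⊓ stab φ (fix φ T)) ⊔ (L ⊓ Subgroup.normalizer (J φ T : Set G)) := by
  set V₁ := Subgroup.closure {v : V | ∃ l ∈ L, ∃ u ∈ fix φ T, φ l u = v} with hV₁
  have hinv : ∀ l : L, ∀ v ∈ V₁, (φ.comp L.subtype) l v ∈ V₁ := by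
    intro l
    refine fun v hv => ((Subgroup.closure_le (V₁.comap (φ (l : G)).toMonoidHom)).mpr ?_) hv
    rintro _ ⟨l', hl', u, hu, rfl⟩
    exact Subgroup.subset_closure ⟨l * l', L.mul_mem l.2 hl', u, hu, apply_mul φ _ _ u⟩
  have hfix : fix φ T ≤ V₁ := fun u hu => Subgroup.subset_closure ⟨1, L.one_mem, u, hu, apply_one φ u⟩
  set ψ := restr (φ.comp L.subtype) V₁ hinv
  have hker : ψ.ker = (stab φ V₁).subgroupOf L := by
    ext l
    exact ⟨fun h u hu => congrArg Subtype.val (DFunLike.congr_fun (MonoidHom.mem_ker.mp h) (⟨u, hu⟩ : V₁)),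
      fun h => MonoidHom.mem_ker.mpr (MulEquiv.ext fun u => Subtype.ext (h u u.2))⟩
  have hcore : Cfsg.pCore 2 ψ.range = ⊥ := by
    haveI := (CfsgLib.Solvable.Cores.pCore_normal (G := ψ.range) 2).comap ψ.rangeRestrict
    set R := (Cfsg.pCore 2 ψ.range).comap ψ.rangeRestrict
    have hR : IsPGroup 2 (R.map ψ) := ((CfsgLib.Solvable.Cores.isPGroup_pCore 2).map ψ.range.subtype).to_le (by
      rintro _ ⟨r, hr, rfl⟩; exact ⟨_, hr, rfl⟩)
    have hmap := (hT.subgroupOf.inf le_top (by rw [Subgroup.normalizer_eq_top]) : SylIn _ R).map_eq ψ hR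
    refine (Subgroup.eq_bot_iff_forall _).mpr fun q hq => ?_
    obtain ⟨r, rfl⟩ := ψ.rangeRestrict_surjective q
    have key : ∀ r ∈ R, ∀ u ∈ fix φ T, φ (r : G) u = u := by
      intro r hr u hu
      obtain ⟨t, ht, he⟩ := hmap.ge (Subgroup.mem_map_of_mem ψ hr)
      have h := congrArg Subtype.val (DFunLike.congr_fun he (⟨u, hfix hu⟩ : V₁))
      exact h.symm.trans (hu _ ht.1)
    have hle : V₁ ≤ fix φ (Subgroup.zpowers (r : G)) := by
      refine (Subgroup.closure_le _).mpr ?_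
      rintro _ ⟨l, hl, u, hu, rfl⟩
      refine mem_fix_zpowers.mpr ?_
      have h := key ((⟨l, hl⟩ : L)⁻¹ * r * ⟨l, hl⟩)
        (by simpa using (inferInstance : R.Normal).conj_mem r hq (⟨l, hl⟩ : L)⁻¹) u hu
      calc φ (r : G) (φ l u) = φ l (φ (l⁻¹ * (r : G) * l) u) := by
            rw [← apply_mul, ← apply_mul]; congr 2; group
        _ = φ l u := congrArg _ h
    exact Subtype.ext (MulEquiv.ext fun u => Subtype.ext ((mem_fix_zpowers (φ := φ)).mp (hle u.2)))
  have hJ : J φ T ≤ L ⊓ stab φ V₁ := by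
    refine sSup_le fun A hA => le_inf (hA.1.trans hT.le) ?_
    by_contra hnot
    have hAk : ¬ A.subgroupOf L ≤ ψ.ker := fun h => hnot fun x hx => by
      have := h (show (⟨x, hT.le (hA.1 hx)⟩ : L) ∈ A.subgroupOf L from hx)
      rwa [hker] at this
    have h := IH.core (noS3_subgroup hG L) (h2.subgroup V₁) hcore
      (lt_of_le_of_lt (Nat.card_le_card_of_surjective _ ψ.rangeRestrict_surjective) hn)
      (A := A.subgroupOf L) (quad_restr _ hinv fun e he f hf v => hA.2.quad e he f hf v) hAk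
    rw [hker, Subgroup.relIndex_subgroupOf (hA.1.trans hT.le)] at h
    set fA := fix ψ (A.subgroupOf L)
    have hf : Nat.card fA = Nat.card ↥(fix φ A ⊓ V₁) := by
      have : fA = (fix φ A).subgroupOf V₁ := by
        ext u
        exact ⟨fun h e he => congrArg Subtype.val (h ⟨e, hT.le (hA.1 he)⟩ he),
          fun h e he => Subtype.ext (h _ he)⟩
      rw [this, ← Subgroup.inf_subgroupOf_right]
      exact Nat.card_congr (Subgroup.subgroupOfEquivOfLe inf_le_right).toEquiv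
    have h1 := Best.card_mul_le hA.2.best V₁
    have h3 := Subgroup.relIndex_mul_relIndex (⊥ : Subgroup G) (stab φ V₁ ⊓ A) A bot_le inf_le_right
    rw [Subgroup.relIndex_bot_left, Subgroup.relIndex_bot_left, Subgroup.inf_relIndex_right, inf_comm] at h3
    rw [← h3, ← hf, ← fA.index_mul_card, mul_comm (Nat.card ↥(A ⊓ stab φ V₁))] at h1
    have hpos : 0 < Nat.card fA * Nat.card ↥(A ⊓ stab φ V₁) := Nat.mul_pos Nat.card_pos Nat.card_pos
    have h4 := Nat.mul_lt_mul_of_pos_right h hpos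
    linarith
  have hfr := frattini hT (inf_le_left : L ⊓ stab φ V₁ ≤ L) (by
    intro l hl
    refine mem_normalizer_iff_cj.mpr (Subgroup.eq_of_le_of_card_ge ?_ (card_cj _ _).ge)
    rintro _ ⟨x, ⟨hxL, hx⟩, rfl⟩
    refine ⟨L.mul_mem (L.mul_mem hl hxL) (L.inv_mem hl), fun u hu => ?_⟩
    show φ (l * x * l⁻¹) u = u
    rw [apply_mul, apply_mul, show φ x (φ l⁻¹ u) = φ l⁻¹ u from hx _ (hinv (⟨l, hl⟩ : L)⁻¹ u hu), apply_inv'])
  refine hfr.trans (sup_le_sup (inf_le_inf_left _ fun x hx u hu => hx u (hfix hu)) (inf_le_inf_left _ ?_))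
  have he : J φ (T ⊓ (L ⊓ stab φ V₁)) = J φ T := le_antisymm (J_mono φ inf_le_left)
    (sSup_le fun A hA => hA.2.le_J (le_inf hA.1 ((hA.2.le_J hA.1).trans hJ)))
  rw [← he]
  exact normalizer_le_J _

end CfsgLib.Fusion.SFreeFF
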