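import Cfsg.Agent.Lib.Fusion.SFreeFF.Setup

/-!
No quadratic offender when a proper subgroup contains every proper overgroup of `J`.
-/

set_option autoImplicit false
set_option linter.unusedSectionVars false
set_option linter.style.haveILetI false

namespace CfsgLib.Fusion.SFreeFF

open CfsgLib.Fusion.CentralOffender

universe u

variable {V : Type u} [CommGroup V] [Finite V] {G : Type u} [Group G] [Finite G] {φ : G →* MulAut V}

/-- The standing hypotheses. -/
structure Ctx (φ : G →* MulAut V) (T : Subgroup G) : Prop where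
  inj : Function.Injective φ
  exp2 : Exp2 V
  noS3 : NoS3 G
  irred : Irred φ
  small : NF.{u} (Nat.card G)
  syl : SylIn T ⊤
  ne : J φ T ≠ ⊥

variable {T : Subgroup G}

theorem Ctx.card_lt (_c : Ctx φ T) {L : Subgroup G} (hL : L ≠ ⊤) : Nat.card L < Nat.card G :=
  lt_of_le_of_ne (Subgroup.card_le_card_group L) fun h => hL (Subgroup.eq_top_of_card_eq L h)

theorem Ctx.exists_BQ_le (c : Ctx φ T) : ∃ A, A ≤ T ∧ BQ φ A := by
  by_contra h
  exact c.ne (le_bot_iff.mp (sSup_le fun A hA => absurd ⟨A, hA⟩ h))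

theorem Ctx.exists_ne_one (c : Ctx φ T) : ∃ x : G, x ≠ 1 := by
  by_contra h
  push Not at h
  exact c.ne ((Subgroup.eq_bot_iff_forall _).mpr fun x _ => h x)

theorem Ctx.normalizer_ne_top (c : Ctx φ T) {Q : Subgroup G} (hQ : IsPGroup 2 Q) (hne : Q ≠ ⊥) :
    Subgroup.normalizer (Q : Set G) ≠ ⊤ :=
  fun h => hne (eq_bot_of_normal_two c.inj c.exp2 c.irred hQ h)

theorem Ctx.le_normalizer (c : Ctx φ T) : T ≤ Subgroup.normalizer (J φ T : Set G) :=
  le_normalizer_J c.syl c.syl.pgroup (J_le φ T)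

/-- A proper subgroup containing every proper overgroup of `J`. -/
structure Cover (φ : G →* MulAut V) (T H : Subgroup G) : Prop where
  ne_top : H ≠ ⊤
  normalizer_le : Subgroup.normalizer (J φ T : Set G) ≤ H
  upper : ∀ L : Subgroup G, L ≠ ⊤ → J φ T ≤ L → L ≤ H

variable {H : Subgroup G}

theorem Cover.stab_le (c : Ctx φ T) (hH : Cover φ T H) : stab φ (fix φ T) ≤ H := by
  refine hH.upper _ (fun htop => ?_) fun x hx u hu => hu x (J_le φ T hx)
  have h1 : fix φ T ≤ fix φ ⊤ := fun u hu x _ => (htop.symm ▸ Subgroup.mem_top x : x ∈ stab φ (fix φ T)) u hu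
  rw [fix_top_eq_bot c.inj c.irred c.exists_ne_one] at h1
  refine exists_fixed (φ := φ) c.syl.pgroup c.exp2 (fun hV => ?_) (le_bot_iff.mp h1)
  obtain ⟨x, hx⟩ := c.exists_ne_one
  haveI := (Nat.card_eq_one_iff_unique.1 hV).1
  exact hx (c.inj (MulEquiv.ext fun v => Subsingleton.elim _ _))

/-- A 2-group inside a conjugate of `H` and Sylow in `G` fixes the conjugate. -/
theorem Cover.sylow_case (c : Ctx φ T) (hH : Cover φ T H) {U : Subgroup G} (hU : SylIn U ⊤) {g : G}
    (hg : U ≤ cj H g) : ∃ z : G, cj T z = U ∧ cj H z = cj H g := by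
  have hTH : T ≤ H := c.le_normalizer.trans hH.normalizer_le
  have h1 : SylIn (cj T g) (cj H g) :=
    ⟨cj_mono hTH g, cj_isPGroup c.syl.pgroup g, fun Q _ hQ2 hle => by
      have := c.syl.cj g
      exact this.max Q (fun x _ => mem_cj.mpr trivial) hQ2 hle⟩
  have h2 : SylIn U (cj H g) := ⟨hg, hU.pgroup, fun Q _ hQ2 hle => hU.max Q le_top hQ2 hle⟩
  obtain ⟨x, hx, he⟩ := h1.conj h2
  exact ⟨x * g, by rw [← cj_cj, he], by rw [← cj_cj, cj_eq_self_of_mem hx]⟩

theorem Cover.unique (c : Ctx φ T) (hH : Cover φ T H) : ∀ U : Subgroup G, IsPGroup 2 U → J φ U ≠ ⊥ →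
    ∀ g, U ≤ cj H g → Subgroup.normalizer (J φ U : Set G) ≤ cj H g ∧ ∀ g', U ≤ cj H g' → cj H g' = cj H g := by
  suffices ∀ (k : ℕ) (U : Subgroup G), Nat.card G - Nat.card U = k → IsPGroup 2 U → J φ U ≠ ⊥ →
      ∀ g, U ≤ cj H g → Subgroup.normalizer (J φ U : Set G) ≤ cj H g ∧ ∀ g', U ≤ cj H g' → cj H g' = cj H g from
    fun U => this _ U rfl
  intro k
  induction k using Nat.strong_induction_on with
  | _ k ih => ?_
  intro U hk hU hJU g hg
  have hTH : T ≤ H := c.le_normalizer.trans hH.normalizer_le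
  by_cases hS : SylIn U ⊤
  · obtain ⟨z, hz, hzH⟩ := Cover.sylow_case c hH hS hg
    refine ⟨?_, fun g' hg' => ?_⟩
    · rw [← hz, ← cj_J, ← cj_normalizer, ← hzH]
      exact cj_mono hH.normalizer_le z
    · obtain ⟨z', hz', hzH'⟩ := Cover.sylow_case c hH hS hg'
      rw [← hzH, ← hzH']
      have hn : z⁻¹ * z' ∈ Subgroup.normalizer (T : Set G) := by
        rw [mem_normalizer_iff_cj, ← cj_cj, hz', ← hz, cj_cj, inv_mul_cancel, cj_one]
      have hk : z⁻¹ * z' ∈ H := hH.normalizer_le (normalizer_le_J T hn)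
      rw [show z' = z * (z⁻¹ * z') by group, ← cj_cj, cj_eq_self_of_mem hk]
  -- larger 2-groups
  have hbig : ∀ W : Subgroup G, IsPGroup 2 W → U < W → ∀ g, W ≤ cj H g →
      Subgroup.normalizer (J φ W : Set G) ≤ cj H g ∧ ∀ g', W ≤ cj H g' → cj H g' = cj H g := by
    intro W hW hlt g hg
    have hc : Nat.card U < Nat.card W := lt_of_le_of_ne (Subgroup.card_le_of_le hlt.le) fun h =>
      hlt.ne (Subgroup.eq_of_le_of_card_ge hlt.le h.ge)
    have hb := Subgroup.card_le_card_group W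
    exact ih _ (by omega) W rfl hW (fun h => hJU (le_bot_iff.mp (h ▸ J_mono φ hlt.le))) g hg
  -- the normaliser of `U` reaches above `U` inside every conjugate containing it
  have hup : ∀ g, U ≤ cj H g → ∃ W : Subgroup G, IsPGroup 2 W ∧ U < W ∧ W ≤ cj H g ∧
      W ≤ Subgroup.normalizer (U : Set G) := by
    intro g hg
    obtain ⟨x, hx, hxU⟩ := ((⟨cj_mono hTH g, cj_isPGroup c.syl.pgroup g, fun Q _ hQ2 hle =>
      (c.syl.cj g).max Q (fun y _ => mem_cj.mpr trivial) hQ2 hle⟩ : SylIn (cj T g) (cj H g))).exists_conj_le hg hU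
    have hT1 : IsPGroup 2 (cj (cj T g) x) := cj_isPGroup (cj_isPGroup c.syl.pgroup g) x
    have hlt : U < cj (cj T g) x := lt_of_le_of_ne hxU fun h => hS (by
      rw [h, cj_cj]
      exact ⟨le_top, cj_isPGroup c.syl.pgroup _, fun Q _ hQ2 hle =>
        (c.syl.cj (x * g)).max Q (fun y _ => mem_cj.mpr trivial) hQ2 hle⟩)
    refine ⟨_, hT1.to_le inf_le_left, lt_inf_normalizer hT1 hlt, inf_le_left.trans ?_, inf_le_right⟩
    calc cj (cj T g) x ≤ cj (cj H g) x := cj_mono (cj_mono hTH g) x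
      _ = cj H g := cj_eq_self_of_mem hx
  set L := Subgroup.normalizer (J φ U : Set G)
  have hL : L ≠ ⊤ := c.normalizer_ne_top (hU.to_le (J_le φ U)) hJU
  have hNL : Subgroup.normalizer (U : Set G) ≤ L := normalizer_le_J U
  have hLg : L ≤ cj H g := by
    obtain ⟨W, hW, hUW, hWg, hWN⟩ := hup g hg
    obtain ⟨S, hS', hWS⟩ := exists_sylIn (hWN.trans hNL) hW
    obtain ⟨g₂, -, hS2⟩ := c.syl.exists_conj_le le_top hS'.pgroup
    have hUS : U < S := lt_of_lt_of_le hUW hWS
    have e : cj H g₂ = cj H g := (hbig W hW hUW g hWg).2 g₂ ((hWS.trans hS2).trans (cj_mono hTH g₂))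
    have hSg : S ≤ cj H g := e ▸ hS2.trans (cj_mono hTH g₂)
    refine (local_le (φ := φ) c.small c.exp2 c.noS3 (c.card_lt hL) hS').trans (sup_le ?_ ?_)
    · refine inf_le_right.trans (le_trans (show stab φ (fix φ S) ≤ stab φ (fix φ (cj T g₂)) from fun x hx u hu => hx u (fix_anti φ hS2 hu)) ?_)
      exact (stab_fix_cj T g₂).trans ((cj_mono (Cover.stab_le c hH) g₂).trans e.le)
    · exact inf_le_right.trans (hbig S hS'.pgroup hUS g hSg).1
  refine ⟨hLg, fun g' hg' => ?_⟩
  obtain ⟨W, hW, hUW, hWg, hWN⟩ := hup g' hg'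
  exact ((hbig W hW hUW g ((hWN.trans hNL).trans hLg)).2 g' hWg)

/-- A proper subgroup containing a best quadratic subgroup of `T` lies in `H`. -/
theorem Cover.le_of_BQ (c : Ctx φ T) (hH : Cover φ T H) {L A : Subgroup G} (hL : L ≠ ⊤) (hA : BQ φ A)
    (hAT : A ≤ T) (hAL : A ≤ L) : L ≤ H := by
  have hTH : T ≤ H := c.le_normalizer.trans hH.normalizer_le
  have hA2 := hA.isPGroup c.inj c.exp2
  obtain ⟨S, hS, hAS⟩ := exists_sylIn hAL hA2
  obtain ⟨g, -, hg⟩ := c.syl.exists_conj_le le_top hS.pgroup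
  have hJA : J φ A ≠ ⊥ := fun h => hA.ne (le_bot_iff.mp (h ▸ hA.le_J le_rfl))
  have e : cj H g = H := by
    have := (Cover.unique c hH A hA2 hJA 1 (by rw [cj_one]; exact hAT.trans hTH)).2 g
      ((hAS.trans hg).trans (cj_mono hTH g))
    rwa [cj_one] at this
  have hJS : J φ S ≠ ⊥ := fun h => hA.ne (le_bot_iff.mp (h ▸ hA.le_J hAS))
  refine (local_le (φ := φ) c.small c.exp2 c.noS3 (c.card_lt hL) hS).trans (sup_le ?_ ?_)
  · refine inf_le_right.trans (le_trans (show stab φ (fix φ S) ≤ stab φ (fix φ (cj T g)) from fun x hx u hu => hx u (fix_anti φ hg hu)) ?_)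
    exact (stab_fix_cj T g).trans ((cj_mono (Cover.stab_le c hH) g).trans e.le)
  · exact inf_le_right.trans (((Cover.unique c hH S hS.pgroup hJS g (hg.trans (cj_mono hTH g))).1).trans e.le)

/-- No cover exists. -/
theorem Cover.false (c : Ctx φ T) (hH : Cover φ T H) : False := by
  obtain ⟨A, hAT, hA⟩ := c.exists_BQ_le
  have hTH : T ≤ H := c.le_normalizer.trans hH.normalizer_le
  have hA2 := hA.isPGroup c.inj c.exp2
  have hkey : ∀ a ∈ A, a ≠ 1 → ∃ g : G, fix φ A ⊔ fix φ (cj A g) = ⊤ ∧ fix φ A ⊓ fix φ (cj A g) = ⊥ ∧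
      fix φ (Subgroup.zpowers a) = fix φ A := by
    intro a ha ha1
    obtain ⟨g, hg⟩ : ∃ g : G, g * a * g⁻¹ ∉ H := by
      by_contra hall
      push Not at hall
      set N := Subgroup.normalClosure ({a} : Set G) with hNdef
      have hNH : N ≤ H := (Subgroup.closure_le _).mpr fun y hy => by
        obtain ⟨z, hz, hzy⟩ := Group.mem_conjugatesOfSet_iff.mp hy
        obtain rfl : z = a := hz
        obtain ⟨t, rfl⟩ := isConj_iff.mp hzy
        exact hall t
      have haN : a ∈ T ⊓ N := ⟨hAT ha, Subgroup.subset_normalClosure rfl⟩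
      have hnN : (⊤ : Subgroup G) ≤ Subgroup.normalizer (N : Set G) := by
        rw [hNdef, Subgroup.normalizer_eq_top]
      have hR : T ⊓ N ≠ ⊥ := fun h => ha1 (Subgroup.mem_bot.mp (h ▸ haN))
      have hL := c.normalizer_ne_top (c.syl.pgroup.to_le inf_le_left) hR
      have hLH : Subgroup.normalizer ((T ⊓ N : Subgroup G) : Set G) ≤ H := by
        refine hH.upper _ hL fun x hx => mem_normalizer_iff_cj.mpr ?_
        rw [cj_inf, cj_eq_self_of_mem (J_le φ T hx), mem_normalizer_iff_cj.mp (hnN trivial)]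
      exact hH.ne_top (top_le_iff.mp ((frattini c.syl (le_top : N ≤ ⊤) hnN).trans
        (sup_le hNH (inf_le_right.trans hLH))))
    set b := g * a * g⁻¹ with hb
    set C := fix φ A with hC
    set Cb := fix φ (Subgroup.zpowers b) with hCb
    let fb : V →* V := MonoidHom.mk' (fun v => φ b v * v⁻¹) fun v w => by
      rw [map_mul, mul_inv, mul_mul_mul_comm]
    have hb2 : b * b = 1 := c.inj (MulEquiv.ext fun v => by
      rw [apply_one, quad_sq φ c.exp2 (quad_map φ hA.quad g) (show b ∈ cj A g from conj_mem_cj ha)])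
    have hgen : A ⊔ Subgroup.zpowers b = ⊤ := by
      by_contra hne
      exact hg ((Cover.le_of_BQ c hH hne hA hAT le_sup_left) (Subgroup.mem_sup_right (Subgroup.mem_zpowers b)))
    have hfb : fb.range ≤ Cb := by
      rintro _ ⟨v, rfl⟩
      exact (quad_map φ hA.quad g).mem_fix (show b ∈ cj A g from conj_mem_cj ha) v |> fun h =>
        fix_anti φ (Subgroup.zpowers_le.mpr (conj_mem_cj ha)) h
    have hinf : C ⊓ Cb = ⊥ := by
      rw [← le_bot_iff, ← fix_top_eq_bot c.inj c.irred c.exists_ne_one]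
      rintro v ⟨h1, h2⟩ x -
      exact ((sup_le (fun e he => h1 e he) (fun e he => h2 e he)) :
        A ⊔ Subgroup.zpowers b ≤ (MulAction.stabilizer (MulAut V) v).comap φ) (hgen ▸ Subgroup.mem_top x)
    set W := C ⊔ fb.range with hW
    let S : Subgroup G :=
      { carrier := {x | ∀ v, φ x v * v⁻¹ ∈ W}
        one_mem' := fun v => by rw [apply_one, mul_inv_cancel]; exact one_mem W
        mul_mem' := fun {x y} hx hy v => by
          have := mul_mem (hx (φ y v)) (hy v)
          rwa [mul_assoc, inv_mul_cancel_left, ← apply_mul] at this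
        inv_mem' := fun {x} hx v => by
          have := inv_mem (hx (φ x⁻¹ v))
          rwa [apply_inv', mul_inv_rev, inv_inv] at this }
    have hS : S = ⊤ := top_le_iff.mp (hgen ▸ sup_le (fun e he v => Subgroup.mem_sup_left (hA.quad.mem_fix he v))
      (Subgroup.zpowers_le.mpr fun v => Subgroup.mem_sup_right ⟨v, rfl⟩))
    have hV : Nat.card V ≠ 1 := fun h => by
      haveI := (Nat.card_eq_one_iff_unique.1 h).1
      exact ha1 (c.inj (MulEquiv.ext fun v => Subsingleton.elim _ _))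
    have hCne : C ≠ ⊥ := exists_fixed (φ := φ) hA2 c.exp2 hV
    have hWtop : W = ⊤ := (c.irred W fun x u hu => by
      have := mul_mem ((hS.symm ▸ Subgroup.mem_top x : x ∈ S) u) hu
      rwa [inv_mul_cancel_right] at this).resolve_left fun h => hCne (le_bot_iff.mp (h ▸ le_sup_left))
    have hinf' : C ⊓ fb.range = ⊥ := le_bot_iff.mp (hinf ▸ inf_le_inf_left C hfb)
    have e1 := dl_sup_add_inf c.exp2 C fb.range
    rw [← hW, hWtop, hinf', dl_bot] at e1
    have e2 := dl_map_add c.exp2 c.exp2 fb ⊤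
    rw [top_inf_eq, ← MonoidHom.range_eq_map,
      show fb.ker = Cb from Subgroup.ext fun v => by
        rw [hCb, mem_fix_zpowers, MonoidHom.mem_ker]; exact mul_inv_eq_one] at e2
    have hle : C ≤ fix φ (Subgroup.zpowers a) := fix_anti φ (Subgroup.zpowers_le.mpr ha)
    have hza : fix φ (Subgroup.zpowers b) = (fix φ (Subgroup.zpowers a)).map (φ g).toMonoidHom := by
      rw [← fix_map, MonoidHom.map_zpowers]; rfl
    have e3 : dl Cb = dl (fix φ (Subgroup.zpowers a)) := by
      rw [hCb, hza, dl, dl, Subgroup.card_map_of_injective (φ g).injective]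
    have hCa : C = fix φ (Subgroup.zpowers a) := eq_of_dl_le c.exp2 hle (by omega)
    have hcj : fix φ (cj A g) = Cb := by rw [cj, fix_map, ← hC, hCa, ← hza]
    refine ⟨g, ?_, hcj.symm ▸ hinf, hCa.symm⟩
    rw [hcj, ← top_le_iff, ← hWtop]
    exact sup_le_sup_left hfb C
  obtain ⟨⟨a, ha⟩, ha'⟩ := A.ne_bot_iff_exists_ne_one.mp hA.ne
  obtain ⟨g, hsup, hinf, -⟩ := hkey a ha fun h => ha' (Subtype.ext h)
  exact false_of_opposite c.inj c.exp2 c.noS3 hA.quad hA.best hA.ne hsup hinf fun x hx hx1 =>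
    (hkey x hx hx1).choose_spec.2.2

end CfsgLib.Fusion.SFreeFF
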